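import Mathlib
import Cfsg.Agent.Helper2.ChevSL2
import Cfsg.Agent.Helper6.Chev.TablesBN
import Cfsg.Agent.Helper6.Chev.Perfect
import Cfsg.Agent.S0836

set_option autoImplicit false
set_option linter.unusedSectionVars false
set_option linter.unusedSimpArgs false
set_option linter.unusedVariables false

/-!
# Twisted groups: generic tools

Products of commuting `SL₂`'s twisted by field endomorphisms, single-term commutator steps,
conjugation by products of fundamental reflections.
-/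

namespace Cfsg.Agent.Helper2.Tw

open Cfsg.Lie Cfsg.Agent.Helper6 Cfsg.Agent.Helper2.St2F Cfsg.Agent.Helper2.ChevSL2
open scoped commutatorElement

/-! ### group-theoretic generalities -/

theorem commutator_eq_top_of_le {M : Type*} [Group M] (G : Subgroup M) (hle : G ≤ ⁅G, G⁆) :
    commutator ↥G = ⊤ := by
  rw [eq_top_iff]
  intro x _
  have hx : (x : M) ∈ ⁅G, G⁆ := hle x.2
  rw [← Subgroup.map_subtype_commutator] at hx
  obtain ⟨y, hy, hxy⟩ := hx
  have : y = x := Subtype.ext hxy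
  rw [← this]
  exact hy

theorem commute_of_gens {A B M : Type*} [Group A] [Group B] [Group M] (f : A →* M) (g : B →* M)
    {S : Set A} {T : Set B} (hS : Subgroup.closure S = ⊤) (hT : Subgroup.closure T = ⊤)
    (h : ∀ s ∈ S, ∀ t ∈ T, Commute (f s) (g t)) : ∀ a b, Commute (f a) (g b) := by
  have h1 : ∀ s ∈ S, ∀ b, Commute (f s) (g b) := by
    intro s hs b
    have hb : b ∈ Subgroup.closure T := by rw [hT]; trivial
    induction hb using Subgroup.closure_induction with
    | mem t ht => exact h s hs t ht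
    | one => rw [map_one]; exact Commute.one_right _
    | mul x y _ _ hx hy => rw [map_mul]; exact hx.mul_right hy
    | inv x _ hx => rw [map_inv]; exact hx.inv_right
  intro a b
  have ha : a ∈ Subgroup.closure S := by rw [hS]; trivial
  induction ha using Subgroup.closure_induction with
  | mem s hs => exact h1 s hs b
  | one => rw [map_one]; exact Commute.one_left _
  | mul x y _ _ hx hy => rw [map_mul]; exact hx.mul_left hy
  | inv x _ hx => rw [map_inv]; exact hx.inv_left

section SL2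

variable {K : Type*} [Field K]

theorem upperSL_mem_commutatorSet (hK : ∃ x : K, x ≠ 0 ∧ x ^ 2 ≠ 1) (t : K) :
    upperSL t ∈ commutatorSet (Matrix.SpecialLinearGroup (Fin 2) K) := by
  apply Cfsg.Agent.S0836.result 2 (Or.inr ⟨rfl, hK⟩) 0 1 (by decide) t
  rw [upperSL_coe]
  ext i j
  fin_cases i <;> fin_cases j <;> simp [Matrix.transvection, Matrix.single]

theorem lowerSL_mem_commutatorSet (hK : ∃ x : K, x ≠ 0 ∧ x ^ 2 ≠ 1) (t : K) :
    lowerSL t ∈ commutatorSet (Matrix.SpecialLinearGroup (Fin 2) K) := by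
  apply Cfsg.Agent.S0836.result 2 (Or.inr ⟨rfl, hK⟩) 1 0 (by decide) t
  rw [lowerSL_coe]
  ext i j
  fin_cases i <;> fin_cases j <;> simp [Matrix.transvection, Matrix.single]

theorem map_upperSL (σ : K →+* K) (t : K) :
    Matrix.SpecialLinearGroup.map σ (upperSL t) = upperSL (σ t) := by
  apply Subtype.ext
  rw [Matrix.SpecialLinearGroup.map_apply_coe, upperSL_coe, upperSL_coe, RingHom.mapMatrix_apply]
  ext i j
  fin_cases i <;> fin_cases j <;> simp

theorem map_lowerSL (σ : K →+* K) (t : K) :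
    Matrix.SpecialLinearGroup.map σ (lowerSL t) = lowerSL (σ t) := by
  apply Subtype.ext
  rw [Matrix.SpecialLinearGroup.map_apply_coe, lowerSL_coe, lowerSL_coe, RingHom.mapMatrix_apply]
  ext i j
  fin_cases i <;> fin_cases j <;> simp

/-- a hom from `SL₂(K)` whose values on the unitriangular elements lie in `G` has image in `G`,
and these values lie in the derived subgroup of `G` if `K` has at least four elements -/
theorem mem_of_hom {M : Type*} [Group M] (ψ : Matrix.SpecialLinearGroup (Fin 2) K →* M)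
    (G : Subgroup M) (hu : ∀ t, ψ (upperSL t) ∈ G) (hl : ∀ t, ψ (lowerSL t) ∈ G) :
    ∀ g, ψ g ∈ G := by
  intro g
  have h : Subgroup.closure (Set.range (upperSL (K := K)) ∪ Set.range (lowerSL (K := K))) ≤
      G.comap ψ := by
    rw [Subgroup.closure_le]
    rintro _ (⟨t, rfl⟩ | ⟨t, rfl⟩)
    · exact hu t
    · exact hl t
  rw [closure_upper_lower] at h
  exact h (Subgroup.mem_top g)

theorem mem_commutator_of_hom {M : Type*} [Group M]
    (ψ : Matrix.SpecialLinearGroup (Fin 2) K →* M)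
    (G : Subgroup M) (hK : ∃ x : K, x ≠ 0 ∧ x ^ 2 ≠ 1)
    (hu : ∀ t, ψ (upperSL t) ∈ G) (hl : ∀ t, ψ (lowerSL t) ∈ G) :
    (∀ t, ψ (upperSL t) ∈ ⁅G, G⁆) ∧ (∀ t, ψ (lowerSL t) ∈ ⁅G, G⁆) := by
  have hall := mem_of_hom ψ G hu hl
  constructor
  · intro t
    obtain ⟨a, b, hab⟩ := upperSL_mem_commutatorSet hK t
    rw [← hab, map_commutatorElement]
    exact Subgroup.commutator_mem_commutator (hall a) (hall b)
  · intro t
    obtain ⟨a, b, hab⟩ := lowerSL_mem_commutatorSet hK t
    rw [← hab, map_commutatorElement]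
    exact Subgroup.commutator_mem_commutator (hall a) (hall b)

end SL2

/-! ### finite fields -/

theorem exists_frob (K : Type*) [Field K] [Fintype K] {q n : ℕ} (hq : IsPrimePow q)
    (hK : Fintype.card K = q ^ n) (hn : n ≠ 0) :
    ∃ σ : K →+* K, ∀ t, σ t = t ^ q := by
  obtain ⟨p, k, hp, hk, rfl⟩ := hq
  have hp' : p.Prime := Nat.prime_iff.2 hp
  obtain ⟨p', hchar, m, hp'prime, hcard⟩ := FiniteField.card' K
  have hpp : p = p' := by
    have h1 : p ∣ p' ^ (m : ℕ) := by
      rw [← hcard, hK]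
      exact dvd_pow (dvd_pow_self p hk.ne') hn
    exact (Nat.prime_dvd_prime_iff_eq hp' hp'prime).1 (hp'.dvd_of_dvd_pow h1)
  subst hpp
  have : CharP K p := hchar
  have hinst : ExpChar K p := ExpChar.prime hp'
  exact ⟨iterateFrobenius K p k, fun t => rfl⟩

theorem exists_sq_ne_one (K : Type*) [Field K] [Fintype K] (h : 4 ≤ Fintype.card K) :
    ∃ x : K, x ≠ 0 ∧ x ^ 2 ≠ 1 := by
  classical
  by_contra hcon
  push Not at hcon
  have hsub : (Finset.univ : Finset K) ⊆ {0, 1, -1} := by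
    intro x _
    by_cases hx : x = 0
    · simp [hx]
    · have h1 := hcon x hx
      have h2 : (x - 1) * (x + 1) = 0 := by ring_nf; rw [h1]; ring
      rcases mul_eq_zero.1 h2 with h3 | h3
      · have : x = 1 := sub_eq_zero.1 h3
        simp [this]
      · have : x = -1 := eq_neg_of_add_eq_zero_left h3
        simp [this]
  have := Finset.card_le_card hsub
  have h3 : ({0, 1, -1} : Finset K).card ≤ 3 := Finset.card_le_three
  rw [Finset.card_univ] at this
  omega

/-! ### root elements -/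

variable {D : ChevalleyDatum} {F : Type*} [Field F]

theorem commWordU_eq (hB : BasicOK D) {a b : ℕ} (hC : CommF D F a b) (t u : F) :
    wordU hB (D.commWord F a b t u) = ⁅(xU hB b u)⁻¹, (xU hB a t)⁻¹⁆ := by
  have h1 : xU hB b u * xU hB a t = xU hB a t * xU hB b u * wordU hB (D.commWord F a b t u) := by
    apply Units.ext
    simp only [Units.val_mul, xU_val, wordU_val]
    exact hC t u
  rw [commutatorElement_def, inv_inv, inv_inv]
  calc wordU hB (D.commWord F a b t u)
      = (xU hB a t * xU hB b u)⁻¹ * (xU hB a t * xU hB b u * wordU hB (D.commWord F a b t u)) := by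
        group
    _ = (xU hB a t * xU hB b u)⁻¹ * (xU hB b u * xU hB a t) := by rw [h1]
    _ = _ := by group

/-- the table entry for `(a, b)` is empty (and the side conditions of the commutator formula) -/
def CommNil (D : ChevalleyDatum) (a b : ℕ) : Prop :=
  a < D.nroots ∧ b < D.nroots ∧ b ≠ a ∧ b ≠ D.neg a ∧ D.commTerms a b = []

instance (D : ChevalleyDatum) (a b : ℕ) : Decidable (CommNil D a b) := by
  unfold CommNil; infer_instance

/-- the roots `±r` and `±r'` are pairwise "strongly orthogonal" -/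
def Orth (D : ChevalleyDatum) (r r' : ℕ) : Prop :=
  CommNil D r r' ∧ CommNil D r (D.neg r') ∧ CommNil D (D.neg r) r' ∧ CommNil D (D.neg r) (D.neg r')

instance (D : ChevalleyDatum) (r r' : ℕ) : Decidable (Orth D r r') := by
  unfold Orth; infer_instance

/-- the table entry for `(a, b)` is the single term `(r, c, 1, 1)` with `c = ±1` -/
def SingleOK (D : ChevalleyDatum) (a b r : ℕ) (c : ℤ) : Prop :=
  a < D.nroots ∧ b < D.nroots ∧ b ≠ a ∧ b ≠ D.neg a ∧ D.commTerms a b = [(r, c, 1, 1)] ∧ c * c = 1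

instance (D : ChevalleyDatum) (a b r : ℕ) (c : ℤ) : Decidable (SingleOK D a b r c) := by
  unfold SingleOK; infer_instance

theorem commute_of_commNil (Δ : BNData D F) {a b : ℕ} (h : CommNil D a b) (t u : F) :
    Commute (xU Δ.hB a t) (xU Δ.hB b u) := by
  obtain ⟨ha, hb, h1, h2, hT⟩ := h
  have hC := Δ.hC a ha b hb h1 h2
  have h1 : xU Δ.hB b u * xU Δ.hB a t =
      xU Δ.hB a t * xU Δ.hB b u * wordU Δ.hB (D.commWord F a b t u) := by
    apply Units.ext
    simp only [Units.val_mul, xU_val, wordU_val]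
    exact hC t u
  have e : D.commWord F a b t u = [] := by
    unfold ChevalleyDatum.commWord; rw [hT]; rfl
  rw [e, wordU_nil, mul_one] at h1
  exact h1.symm

/-- a single-term commutator step: `X_r(S)` lies in the derived subgroup of `G` -/
theorem step_single (Δ : BNData D F) {G : Subgroup (GL D.Idx F)} {a b r : ℕ} {c : ℤ} {S : Set F}
    (h : SingleOK D a b r c) (hS : ∀ t ∈ S, -((c : ℤ) : F) * t ∈ S)
    (ha : ∀ t ∈ S, xU Δ.hB a t ∈ G) (hb : xU Δ.hB b (1 : F) ∈ G) :
    ∀ t ∈ S, xU Δ.hB r t ∈ ⁅G, G⁆ := by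
  obtain ⟨ha', hb', h1, h2, hT, hc⟩ := h
  have hC := Δ.hC a ha' b hb' h1 h2
  intro t ht
  have hcF : (c : F) * (c : F) = 1 := by exact_mod_cast congrArg (fun z : ℤ => (z : F)) hc
  have e : D.commWord F a b (-(c : F) * t) 1 = [(r, t)] := by
    unfold ChevalleyDatum.commWord
    rw [hT]
    simp only [List.map_cons, List.map_nil, pow_one, mul_one, neg_mul, neg_neg]
    rw [← mul_assoc, hcF, one_mul]
  have h3 := commWordU_eq Δ.hB hC (-(c : F) * t) 1
  rw [e, wordU_cons, wordU_nil, mul_one] at h3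
  change xU Δ.hB r t = _ at h3
  rw [h3]
  exact Subgroup.commutator_mem_commutator (G.inv_mem hb) (G.inv_mem (ha _ (hS t ht)))

theorem nU_eq_word (hB : BasicOK D) (r : ℕ) :
    nU hB r (one_ne_zero (α := F)) = xU hB r 1 * xU hB (D.neg r) (-1) * xU hB r 1 := by
  apply Units.ext
  simp only [Units.val_mul, xU_val, nU_val]
  rw [nMat_eq', inv_one]


/-! ### products of commuting `SL₂`'s -/

section hom

variable {K : Type*} [Field K] {D : ChevalleyDatum}

theorem commute_hom_of_orth (Δ : BNData D K) {r r' : ℕ} (horth : Orth D r r')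
    {φ₁ φ₂ : Matrix.SpecialLinearGroup (Fin 2) K →* GL D.Idx K}
    (h1u : ∀ t, φ₁ (upperSL t) = xU Δ.hB r t) (h1l : ∀ t, φ₁ (lowerSL t) = xU Δ.hB (D.neg r) t)
    (h2u : ∀ t, φ₂ (upperSL t) = xU Δ.hB r' t) (h2l : ∀ t, φ₂ (lowerSL t) = xU Δ.hB (D.neg r') t) :
    ∀ a b, Commute (φ₁ a) (φ₂ b) := by
  obtain ⟨o1, o2, o3, o4⟩ := horth
  apply commute_of_gens φ₁ φ₂ closure_upper_lower closure_upper_lower
  rintro _ (⟨t, rfl⟩ | ⟨t, rfl⟩) _ (⟨u, rfl⟩ | ⟨u, rfl⟩)
  · rw [h1u, h2u]; exact commute_of_commNil Δ o1 t u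
  · rw [h1u, h2l]; exact commute_of_commNil Δ o2 t u
  · rw [h1l, h2u]; exact commute_of_commNil Δ o3 t u
  · rw [h1l, h2l]; exact commute_of_commNil Δ o4 t u

theorem hom_nword (hB : BasicOK D) {r : ℕ}
    {φ : Matrix.SpecialLinearGroup (Fin 2) K →* GL D.Idx K}
    (hu : ∀ t, φ (upperSL t) = xU hB r t) (hl : ∀ t, φ (lowerSL t) = xU hB (D.neg r) t) :
    φ (upperSL 1 * lowerSL (-1) * upperSL 1) = nU hB r (one_ne_zero (α := K)) := by
  rw [map_mul, map_mul, hu, hl, nU_eq_word]

/-- the product of two commuting `SL₂`'s, the second twisted by `σ` -/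
theorem exists_pair_hom (Δ : BNData D K) (hD : IsTabulated D) {r r' : ℕ} (horth : Orth D r r')
    (σ : K →+* K) :
    ∃ ψ : Matrix.SpecialLinearGroup (Fin 2) K →* GL D.Idx K,
      (∀ t, ψ (upperSL t) = xU Δ.hB r t * xU Δ.hB r' (σ t)) ∧
      (∀ t, ψ (lowerSL t) = xU Δ.hB (D.neg r) t * xU Δ.hB (D.neg r') (σ t)) ∧
      ψ (upperSL 1 * lowerSL (-1) * upperSL 1) =
        nU Δ.hB r (one_ne_zero (α := K)) * nU Δ.hB r' (one_ne_zero (α := K)) := by
  have hr : r < D.nroots := horth.1.1
  have hr' : r' < D.nroots := horth.1.2.1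
  obtain ⟨φ₁, h1u, h1l⟩ := hasSL2_of_tabulated (F := K) hD hr
  obtain ⟨φ₂, h2u, h2l⟩ := hasSL2_of_tabulated (F := K) hD hr'
  have comm := commute_hom_of_orth Δ horth h1u h1l h2u h2l
  refine ⟨(MonoidHom.noncommCoprod φ₁ φ₂ comm).comp
    ((MonoidHom.id _).prod (Matrix.SpecialLinearGroup.map σ)), fun t => ?_, fun t => ?_, ?_⟩
  · rw [MonoidHom.comp_apply, MonoidHom.prod_apply, MonoidHom.noncommCoprod_apply,
      MonoidHom.id_apply, map_upperSL, h1u, h2u]
  · rw [MonoidHom.comp_apply, MonoidHom.prod_apply, MonoidHom.noncommCoprod_apply,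
      MonoidHom.id_apply, map_lowerSL, h1l, h2l]
  · have hw : Matrix.SpecialLinearGroup.map σ (upperSL 1 * lowerSL (-1) * upperSL 1) =
        upperSL 1 * lowerSL (-1) * upperSL 1 := by
      rw [map_mul, map_mul, map_upperSL, map_lowerSL, map_one, map_neg, map_one]
    simp only [MonoidHom.comp_apply, MonoidHom.prod_apply, MonoidHom.noncommCoprod_apply,
      MonoidHom.id_apply]
    rw [hw, hom_nword Δ.hB h1u h1l, hom_nword Δ.hB h2u h2l]

/-- the product of three commuting `SL₂`'s, twisted by `σ` and `σ'` -/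
theorem exists_triple_hom (Δ : BNData D K) (hD : IsTabulated D) {r r' r'' : ℕ}
    (h12 : Orth D r r') (h13 : Orth D r r'') (h23 : Orth D r' r'')
    (σ σ' : K →+* K) :
    ∃ ψ : Matrix.SpecialLinearGroup (Fin 2) K →* GL D.Idx K,
      (∀ t, ψ (upperSL t) = xU Δ.hB r t * xU Δ.hB r' (σ t) * xU Δ.hB r'' (σ' t)) ∧
      (∀ t, ψ (lowerSL t) =
        xU Δ.hB (D.neg r) t * xU Δ.hB (D.neg r') (σ t) * xU Δ.hB (D.neg r'') (σ' t)) ∧
      ψ (upperSL 1 * lowerSL (-1) * upperSL 1) =
        nU Δ.hB r (one_ne_zero (α := K)) * nU Δ.hB r' (one_ne_zero (α := K)) *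
          nU Δ.hB r'' (one_ne_zero (α := K)) := by
  have hr : r < D.nroots := h12.1.1
  have hr' : r' < D.nroots := h12.1.2.1
  have hr'' : r'' < D.nroots := h13.1.2.1
  obtain ⟨φ₁, h1u, h1l⟩ := hasSL2_of_tabulated (F := K) hD hr
  obtain ⟨φ₂, h2u, h2l⟩ := hasSL2_of_tabulated (F := K) hD hr'
  obtain ⟨φ₃, h3u, h3l⟩ := hasSL2_of_tabulated (F := K) hD hr''
  have c12 := commute_hom_of_orth Δ h12 h1u h1l h2u h2l
  have c13 := commute_hom_of_orth Δ h13 h1u h1l h3u h3l
  have c23 := commute_hom_of_orth Δ h23 h2u h2l h3u h3l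
  have c123 : ∀ (m : Matrix.SpecialLinearGroup (Fin 2) K × Matrix.SpecialLinearGroup (Fin 2) K)
      (n : Matrix.SpecialLinearGroup (Fin 2) K),
      Commute ((MonoidHom.noncommCoprod φ₁ φ₂ c12) m) (φ₃ n) := by
    intro m n
    rw [MonoidHom.noncommCoprod_apply]
    exact (c13 m.1 n).mul_left (c23 m.2 n)
  refine ⟨(MonoidHom.noncommCoprod (MonoidHom.noncommCoprod φ₁ φ₂ c12) φ₃ c123).comp
    (((MonoidHom.id _).prod (Matrix.SpecialLinearGroup.map σ)).prod
      (Matrix.SpecialLinearGroup.map σ')), fun t => ?_, fun t => ?_, ?_⟩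
  · rw [MonoidHom.comp_apply, MonoidHom.prod_apply, MonoidHom.prod_apply,
      MonoidHom.noncommCoprod_apply, MonoidHom.noncommCoprod_apply,
      MonoidHom.id_apply, map_upperSL, map_upperSL, h1u, h2u, h3u]
  · rw [MonoidHom.comp_apply, MonoidHom.prod_apply, MonoidHom.prod_apply,
      MonoidHom.noncommCoprod_apply, MonoidHom.noncommCoprod_apply,
      MonoidHom.id_apply, map_lowerSL, map_lowerSL, h1l, h2l, h3l]
  · have hw : ∀ τ : K →+* K, Matrix.SpecialLinearGroup.map τ (upperSL 1 * lowerSL (-1) * upperSL 1) =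
        upperSL 1 * lowerSL (-1) * upperSL 1 := by
      intro τ
      rw [map_mul, map_mul, map_upperSL, map_lowerSL, map_one, map_neg, map_one]
    simp only [MonoidHom.comp_apply, MonoidHom.prod_apply, MonoidHom.noncommCoprod_apply,
      MonoidHom.id_apply]
    rw [hw, hw, hom_nword Δ.hB h1u h1l, hom_nword Δ.hB h2u h2l, hom_nword Δ.hB h3u h3l]

end hom

/-! ### conjugation by products of fundamental reflections -/

section conj

variable {D : ChevalleyDatum} {F : Type*} [Field F]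

theorem conj2 (Δ : BNData D F) {i j : ℕ} (hi : i < D.rank) (hj : j < D.rank) {s : ℕ}
    (hs : s < D.nroots) (t : F) :
    (nU Δ.hB (D.simple i) (one_ne_zero (α := F)) * nU Δ.hB (D.simple j) (one_ne_zero (α := F))) *
      xU Δ.hB s t *
      (nU Δ.hB (D.simple i) (one_ne_zero (α := F)) * nU Δ.hB (D.simple j) (one_ne_zero (α := F)))⁻¹ =
    xU Δ.hB (wR D (D.simple i) (wR D (D.simple j) s))
      (((etaR D (D.simple i) (wR D (D.simple j) s) : ℤ) : F) *
        (((etaR D (D.simple j) s : ℤ) : F) * t)) := by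
  have hAi := Δ.hAll i hi
  have hAj := Δ.hAll j hj
  have hs1 : wR D (D.simple j) s < D.nroots := wR_lt Δ.hB hAj.hS.1 hAj.hR hs
  rw [← nU_conj_xU Δ.hB hAi hs1, ← nU_conj_xU Δ.hB hAj hs]
  simp only [mul_inv_rev, mul_assoc]

theorem conj3 (Δ : BNData D F) {i j k : ℕ} (hi : i < D.rank) (hj : j < D.rank) (hk : k < D.rank)
    {s : ℕ} (hs : s < D.nroots) (t : F) :
    (nU Δ.hB (D.simple i) (one_ne_zero (α := F)) * nU Δ.hB (D.simple j) (one_ne_zero (α := F)) *
        nU Δ.hB (D.simple k) (one_ne_zero (α := F))) *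
      xU Δ.hB s t *
      (nU Δ.hB (D.simple i) (one_ne_zero (α := F)) * nU Δ.hB (D.simple j) (one_ne_zero (α := F)) *
        nU Δ.hB (D.simple k) (one_ne_zero (α := F)))⁻¹ =
    xU Δ.hB (wR D (D.simple i) (wR D (D.simple j) (wR D (D.simple k) s)))
      (((etaR D (D.simple i) (wR D (D.simple j) (wR D (D.simple k) s)) : ℤ) : F) *
        (((etaR D (D.simple j) (wR D (D.simple k) s) : ℤ) : F) *
          (((etaR D (D.simple k) s : ℤ) : F) * t))) := by
  have hAk := Δ.hAll k hk
  have hs1 : wR D (D.simple k) s < D.nroots := wR_lt Δ.hB hAk.hS.1 hAk.hR hs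
  rw [← conj2 Δ hi hj hs1, ← nU_conj_xU Δ.hB hAk hs]
  simp only [mul_inv_rev, mul_assoc]

end conj

end Cfsg.Agent.Helper2.Tw
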