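import Mathlib
import Cfsg.Agent.Helper2.Tw.Basic
import Cfsg.Agent.Helper6.Chev.Core
import Cfsg.Agent.Helper6.Chev.Longest

set_option autoImplicit false
set_option linter.unusedSectionVars false
set_option linter.unusedSimpArgs false
set_option linter.unusedVariables false

/-!
# The normal core of `B ∩ G¹` in a subgroup `G¹` of a Chevalley group: generic tools
-/

namespace Cfsg.Agent.Helper2.Tw

open Cfsg.Lie Cfsg.Agent.Helper6

variable {D : ChevalleyDatum} {F : Type*} [Field F]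

/-- explicit version of `map_conj_posUnipotent`: `n₀ = nW L` conjugates `U` to `V` -/
theorem map_conj_nW (Δ : BNData D F) {L : List ℕ} (h : w0Chk D (D.nroots / 2) L = true) :
    nW Δ.hB F L ∈ D.monomialSubgroup F ∧
      (D.posUnipotent F).map (MulAut.conj (nW Δ.hB F L)).toMonoidHom = D.negUnipotent F := by
  have hB := Δ.hB
  have hAll := Δ.hAll
  have hpos : ∀ r, D.IsPosRoot r ↔ (r < D.nroots ∧ D.nroots / 2 ≤ r) := by
    intro r
    constructor
    · intro hr; exact ⟨hr.1, (Δ.hsign r hr.1).1.1 hr⟩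
    · rintro ⟨h1, h2⟩; exact (Δ.hsign r h1).1.2 h2
  have hneg : ∀ r, D.IsNegRoot r ↔ (r < D.nroots ∧ r < D.nroots / 2) := by
    intro r
    constructor
    · intro hr; exact ⟨hr.1, (Δ.hsign r hr.1).2.1 hr⟩
    · rintro ⟨h1, h2⟩; exact (Δ.hsign r h1).2.2 h2
  simp only [w0Chk, Bool.and_eq_true, allL_iff, allLt_iff, Nat.blt_eq] at h
  obtain ⟨hL, hchk⟩ := h
  have hLr : ∀ i ∈ L.reverse, i < D.rank := fun i hi => hL i (List.mem_reverse.1 hi)
  refine ⟨nW_mem_monomial Δ.hB hAll hL, ?_⟩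
  apply le_antisymm
  · rw [Subgroup.map_le_iff_le_comap]
    unfold ChevalleyDatum.posUnipotent
    rw [Subgroup.closure_le]
    rintro g ⟨r, t, hr, hg⟩
    have hr' := (hpos r).1 hr
    have hgx : g = xU Δ.hB r t := Units.ext (by rw [hg, xU_val])
    obtain ⟨t', ht'⟩ := nW_conj (F := F) Δ.hB hAll hL hr'.1 t
    change (MulAut.conj (nW Δ.hB F L)) g ∈ D.negUnipotent F
    rw [MulAut.conj_apply, hgx, ht']
    apply Subgroup.subset_closure
    refine ⟨wFold D L r, t', ?_, rfl⟩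
    rw [hneg]
    refine ⟨wFold_lt Δ.hB hAll hL hr'.1, ?_⟩
    have := hchk r hr'.1
    rw [show Nat.ble (D.nroots / 2) r = true from Nat.ble_eq ▸ hr'.2] at this
    simp only [cond_true, Nat.blt_eq] at this
    rwa [wFoldD_eq Δ.hB Δ.hF Δ.hn hAll hL hr'.1] at this
  · unfold ChevalleyDatum.negUnipotent
    rw [Subgroup.closure_le]
    rintro g ⟨r, t, hr, hg⟩
    have hr' := (hneg r).1 hr
    have hgx : g = xU Δ.hB r t := Units.ext (by rw [hg, xU_val])
    obtain ⟨t', ht'⟩ := nW_inv_conj (F := F) Δ.hB hAll hL hr'.1 t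
    rw [SetLike.mem_coe, Subgroup.mem_map]
    refine ⟨xU Δ.hB (wFold D L.reverse r) t', ?_, ?_⟩
    · apply Subgroup.subset_closure
      refine ⟨wFold D L.reverse r, t', ?_, rfl⟩
      rw [hpos]
      refine ⟨wFold_lt Δ.hB hAll hLr hr'.1, ?_⟩
      have := hchk r hr'.1
      have hble : Nat.ble (D.nroots / 2) r = false := by
        cases hb : Nat.ble (D.nroots / 2) r with
        | false => rfl
        | true => have := Nat.ble_eq ▸ hb; omega
      rw [hble] at this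
      simp only [cond_false, Nat.ble_eq] at this
      rwa [wFoldD_eq Δ.hB Δ.hF Δ.hn hAll hLr hr'.1] at this
    · change (MulAut.conj (nW Δ.hB F L)) _ = g
      rw [MulAut.conj_apply, ← ht', hgx]
      group

theorem nW_append (hB : BasicOK D) (L L' : List ℕ) :
    nW hB F (L ++ L') = nW hB F L * nW hB F L' := by
  unfold nW
  rw [List.map_append, List.prod_append]

/-- step 1: the core of `B ∩ G` in `G` lies in `H`, if `G` contains an `n₀` with `n₀ U n₀⁻¹ = V` -/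
theorem core_le_diagonal (Δ : BNData D F) (G : Subgroup (GL D.Idx F)) {n : GL D.Idx F}
    (hnG : n ∈ G) (hnN : n ∈ D.monomialSubgroup F)
    (hnU : (D.posUnipotent F).map (MulAut.conj n).toMonoidHom = D.negUnipotent F)
    {k : ↥G} (hk : k ∈ ((D.borelSubgroup F ⊓ G).subgroupOf G).normalCore) :
    (k : GL D.Idx F) ∈ D.diagonalSubgroup F := by
  have hB := Δ.hB
  have hnH := monomial_le_normalizer Δ.hB Δ.hAll Δ.hH Δ.hReach hnN
  have hkB : (k : GL D.Idx F) ∈ D.borelSubgroup F :=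
    (Subgroup.mem_subgroupOf.1 (Subgroup.normalCore_le _ hk)).1
  have h1 : (⟨n, hnG⟩ : G)⁻¹ * k * (⟨n, hnG⟩ : G)⁻¹⁻¹ ∈
      (D.borelSubgroup F ⊓ G).subgroupOf G :=
    Subgroup.normalCore_le _ ((Subgroup.normalCore_normal _).conj_mem k hk _)
  rw [Subgroup.mem_subgroupOf] at h1
  have h1 := h1.1
  simp only [Subgroup.coe_mul, Subgroup.coe_inv, inv_inv] at h1
  have h1' : n⁻¹ * (k : GL D.Idx F) * n ∈
      ((D.posUnipotent F ⊔ D.diagonalSubgroup F : Subgroup (GL D.Idx F)) : Set (GL D.Idx F)) := h1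
  rw [Subgroup.coe_mul_of_right_le_normalizer_left _ _
    (diagonal_le_normalizer_posUnipotent Δ.hB Δ.hAll Δ.hAdd Δ.hH), Set.mem_mul] at h1'
  obtain ⟨u, hu, h, hh, huh⟩ := h1'
  have hkk : (k : GL D.Idx F) = (n * u * n⁻¹) * (n * h * n⁻¹) := by
    have : (k : GL D.Idx F) = n * (n⁻¹ * (k : GL D.Idx F) * n) * n⁻¹ := by group
    rw [this, ← huh]; group
  have hV : n * u * n⁻¹ ∈ D.negUnipotent F := by
    rw [← hnU]
    exact Subgroup.mem_map.2 ⟨u, hu, rfl⟩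
  have hHH : n * h * n⁻¹ ∈ D.diagonalSubgroup F :=
    ((Subgroup.mem_normalizer_iff.1 hnH) h).1 hh
  have hmem : (k : GL D.Idx F) ∈ D.borelSubgroup F ⊓ (D.negUnipotent F ⊔ D.diagonalSubgroup F) := by
    refine ⟨hkB, ?_⟩
    rw [hkk]
    exact Subgroup.mul_mem _ (Subgroup.mem_sup_left hV) (Subgroup.mem_sup_right hHH)
  rwa [borel_inf_negBorel Δ.hB Δ.hAll Δ.hAdd Δ.hH Δ.good2] at hmem

/-- a character of the torus that is trivial on the fundamental roots is trivial on all roots -/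
theorem torChar_eq_one_of_simple (Δ : BNData D F) {c : ℕ → F} (hc : ∀ k, c k ≠ 0)
    (h : ∀ i < D.rank, torChar D c (D.simple i) = 1) : ∀ r < D.nroots, torChar D c r = 1 := by
  intro r hr
  have hreach := Δ.hReach r hr
  induction hreach with
  | simple hi => exact h _ hi
  | @step i s hi hs _ ih =>
    have hA := Δ.hAll i hi
    have hws := wR_lt Δ.hB hA.hS.1 hA.hR hs
    have ihs := ih hs
    have key : torChar D c (wR D (D.simple i) s) =
        torChar D c s * (torChar D c (D.simple i)) ^ (D.cartan i (wR D (D.simple i) s)) := by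
      unfold torChar
      rw [← Finset.prod_zpow, ← Finset.prod_mul_distrib]
      apply Finset.prod_congr rfl
      intro j hj
      have hj' : j < D.rank := Finset.mem_range.1 hj
      have e := hA.hC.cart j hj' s hs
      have e' : D.cartan j (wR D (D.simple i) s) =
          D.cartan j s + D.cartan j (D.simple i) * D.cartan i (wR D (D.simple i) s) := by
        rw [e]; ring
      rw [e', zpow_add₀ (hc j), zpow_mul]
    rw [key, ihs, h i hi, one_zpow, mul_one]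

/-- conjugation of a root element by a torus element -/
theorem conj_tor (Δ : BNData D F) {k : GL D.Idx F} {c : ℕ → F} (hc : ∀ i, c i ≠ 0)
    (hk : (k : Matrix D.Idx D.Idx F) = torMat D F c) {r : ℕ} (hr : r < D.nroots) (t : F) :
    k * xU Δ.hB r t * k⁻¹ = xU Δ.hB r (torChar D c r * t) := by
  rw [mul_inv_eq_iff_eq_mul]
  apply Units.ext
  rw [Units.val_mul, Units.val_mul, hk, xU_val, xU_val]
  exact torMat_mul_x Δ.hB Δ.hAdd hc hr t

/-- `x_s(b)` fixes `e_u` -/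
def FixOK (D : ChevalleyDatum) (s u : ℕ) : Prop :=
  s < D.nroots ∧ u < D.nroots ∧ u ≠ s ∧ u ≠ D.neg s ∧ D.chainEntry s u = []

instance (D : ChevalleyDatum) (s u : ℕ) : Decidable (FixOK D s u) := by
  unfold FixOK; infer_instance

theorem x_fix_ev (Δ : BNData D F) {s u : ℕ} (h : FixOK D s u) (b : F) :
    (D.x F s b).mulVec (ev D F u) = ev D F u := by
  obtain ⟨hs, hu, h1, h2, hch⟩ := h
  rw [x_of_lt hs, x_mulVec_ev' Δ.hB.keys ⟨s, hs⟩ b ⟨hu, h1, h2⟩]
  change ev D F u + chainVec D F b 0 (D.chainEntry s u) = ev D F u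
  rw [hch]
  simp [chainVec]

/-- a product `x_r(a) M` with `M` fixing `e_{-r}` is a torus element only for `a = 0` -/
theorem eq_zero_of_mul_eq_torMat (Δ : BNData D F) {r : ℕ} (hrn : r < D.nroots) {a : F}
    {M : Matrix D.Idx D.Idx F} (hM : M.mulVec (ev D F (D.neg r)) = ev D F (D.neg r)) {c : ℕ → F}
    (h : D.x F r a * M = torMat D F c) : a = 0 := by
  have hB := Δ.hB
  have hn := hB.neg r hrn
  have h1 : (D.x F r a * M).mulVec (ev D F (D.neg r)) = (torMat D F c).mulVec (ev D F (D.neg r)) := by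
    rw [h]
  rw [← Matrix.mulVec_mulVec, hM, x_mulVec_ev_neg hB hrn] at h1
  unfold torMat at h1
  rw [dMat_mulVec_ev] at h1
  have h2 := congrFun h1 (Sum.inr ⟨r, hrn⟩)
  simp only [Pi.sub_apply, Pi.add_apply, Pi.smul_apply, ev_apply_inr, smul_eq_mul] at h2
  have e1 : ¬ r = D.neg r := fun e => hn.2.1 e.symm
  have e2 : hr D F r (Sum.inr ⟨r, hrn⟩) = 0 := by
    unfold hr
    rw [Finset.sum_apply]
    apply Finset.sum_eq_zero
    intro i _
    rw [Pi.smul_apply, hv_apply_inr, smul_zero]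
  simp only [e1, if_false, if_true, e2, mul_zero, mul_one, zero_add, zero_sub] at h2
  have : a ^ 2 = 0 := by
    have := neg_eq_zero.1 h2
    exact this
  exact pow_eq_zero_iff (by norm_num) |>.1 this

section chars

variable (Δ : BNData D F) {k : GL D.Idx F} {c : ℕ → F} (hc : ∀ i, c i ≠ 0)
  (hk : (k : Matrix D.Idx D.Idx F) = torMat D F c)
include hc hk

theorem char_single {r : ℕ} (hr : r < D.nroots)
    (h : xU Δ.hB r 1 * k * (xU Δ.hB r 1)⁻¹ * k⁻¹ ∈ D.diagonalSubgroup F) :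
    torChar D c r = 1 := by
  have e : xU Δ.hB r 1 * k * (xU Δ.hB r 1)⁻¹ * k⁻¹ = xU Δ.hB r (1 + torChar D c r * (-1)) := by
    rw [xU_inv]
    calc xU Δ.hB r 1 * k * xU Δ.hB r (-1) * k⁻¹
        = xU Δ.hB r 1 * (k * xU Δ.hB r (-1) * k⁻¹) := by group
      _ = _ := by rw [conj_tor Δ hc hk hr, xU_mul]
  rw [e] at h
  obtain ⟨c', _, hv'⟩ := exists_torMat_of_mem_diagonal Δ.hB Δ.hH h
  rw [xU_val] at hv'
  have := eq_zero_of_x_eq_torMat Δ.hB hr hv'
  linear_combination -this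

theorem char_pair {r r' : ℕ} (hr : r < D.nroots) (hr' : r' < D.nroots)
    (hcomm : ∀ t u : F, Commute (xU Δ.hB r t) (xU Δ.hB r' u))
    (f1 : FixOK D r' (D.neg r)) (f2 : FixOK D r (D.neg r'))
    (h : (xU Δ.hB r 1 * xU Δ.hB r' 1) * k * (xU Δ.hB r 1 * xU Δ.hB r' 1)⁻¹ * k⁻¹ ∈
      D.diagonalSubgroup F) :
    torChar D c r = 1 ∧ torChar D c r' = 1 := by
  obtain ⟨a, ha⟩ : ∃ a, a = 1 + torChar D c r * (-1) := ⟨_, rfl⟩
  obtain ⟨b, hb⟩ : ∃ b, b = 1 + torChar D c r' * (-1) := ⟨_, rfl⟩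
  have e : (xU Δ.hB r 1 * xU Δ.hB r' 1) * k * (xU Δ.hB r 1 * xU Δ.hB r' 1)⁻¹ * k⁻¹ =
      xU Δ.hB r a * xU Δ.hB r' b := by
    rw [mul_inv_rev, xU_inv, xU_inv]
    calc xU Δ.hB r 1 * xU Δ.hB r' 1 * k * (xU Δ.hB r' (-1) * xU Δ.hB r (-1)) * k⁻¹
        = xU Δ.hB r 1 * xU Δ.hB r' 1 * (k * xU Δ.hB r' (-1) * k⁻¹) *
            (k * xU Δ.hB r (-1) * k⁻¹) := by group
      _ = xU Δ.hB r 1 * (xU Δ.hB r' 1 * xU Δ.hB r' (torChar D c r' * (-1))) *
            xU Δ.hB r (torChar D c r * (-1)) := by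
          rw [conj_tor Δ hc hk hr, conj_tor Δ hc hk hr']; group
      _ = xU Δ.hB r 1 * (xU Δ.hB r' b * xU Δ.hB r (torChar D c r * (-1))) := by
          rw [xU_mul, ← hb, mul_assoc]
      _ = xU Δ.hB r 1 * (xU Δ.hB r (torChar D c r * (-1)) * xU Δ.hB r' b) := by
          rw [(hcomm _ _).eq]
      _ = _ := by rw [← mul_assoc, xU_mul, ← ha]
  rw [e] at h
  obtain ⟨c', _, hv'⟩ := exists_torMat_of_mem_diagonal Δ.hB Δ.hH h
  have hv1 : D.x F r a * D.x F r' b = torMat D F c' := by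
    rw [← hv', Units.val_mul, xU_val, xU_val]
  have hv2 : D.x F r' b * D.x F r a = torMat D F c' := by
    rw [← hv', (hcomm a b).eq, Units.val_mul, xU_val, xU_val]
  have ha0 := eq_zero_of_mul_eq_torMat Δ hr (x_fix_ev Δ f1 b) hv1
  have hb0 := eq_zero_of_mul_eq_torMat Δ hr' (x_fix_ev Δ f2 a) hv2
  rw [ha] at ha0
  rw [hb] at hb0
  exact ⟨by linear_combination -ha0, by linear_combination -hb0⟩

theorem char_triple {r r' r'' : ℕ} (hr : r < D.nroots) (hr' : r' < D.nroots) (hr'' : r'' < D.nroots)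
    (c12 : ∀ t u : F, Commute (xU Δ.hB r t) (xU Δ.hB r' u))
    (c13 : ∀ t u : F, Commute (xU Δ.hB r t) (xU Δ.hB r'' u))
    (c23 : ∀ t u : F, Commute (xU Δ.hB r' t) (xU Δ.hB r'' u))
    (f21 : FixOK D r' (D.neg r)) (f31 : FixOK D r'' (D.neg r))
    (f12 : FixOK D r (D.neg r')) (f32 : FixOK D r'' (D.neg r'))
    (f13 : FixOK D r (D.neg r'')) (f23 : FixOK D r' (D.neg r''))
    (h : (xU Δ.hB r 1 * xU Δ.hB r' 1 * xU Δ.hB r'' 1) * k *
        (xU Δ.hB r 1 * xU Δ.hB r' 1 * xU Δ.hB r'' 1)⁻¹ * k⁻¹ ∈ D.diagonalSubgroup F) :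
    torChar D c r = 1 ∧ torChar D c r' = 1 ∧ torChar D c r'' = 1 := by
  obtain ⟨a, ha⟩ : ∃ a, a = 1 + torChar D c r * (-1) := ⟨_, rfl⟩
  obtain ⟨b, hb⟩ : ∃ b, b = 1 + torChar D c r' * (-1) := ⟨_, rfl⟩
  obtain ⟨d, hd⟩ : ∃ d, d = 1 + torChar D c r'' * (-1) := ⟨_, rfl⟩
  have e : (xU Δ.hB r 1 * xU Δ.hB r' 1 * xU Δ.hB r'' 1) * k *
        (xU Δ.hB r 1 * xU Δ.hB r' 1 * xU Δ.hB r'' 1)⁻¹ * k⁻¹ =
      xU Δ.hB r a * xU Δ.hB r' b * xU Δ.hB r'' d := by
    rw [mul_inv_rev, mul_inv_rev, xU_inv, xU_inv, xU_inv]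
    calc xU Δ.hB r 1 * xU Δ.hB r' 1 * xU Δ.hB r'' 1 * k *
          (xU Δ.hB r'' (-1) * (xU Δ.hB r' (-1) * xU Δ.hB r (-1))) * k⁻¹
        = xU Δ.hB r 1 * xU Δ.hB r' 1 * xU Δ.hB r'' 1 * (k * xU Δ.hB r'' (-1) * k⁻¹) *
            (k * xU Δ.hB r' (-1) * k⁻¹) * (k * xU Δ.hB r (-1) * k⁻¹) := by group
      _ = xU Δ.hB r 1 * xU Δ.hB r' 1 * (xU Δ.hB r'' 1 * xU Δ.hB r'' (torChar D c r'' * (-1))) *
            xU Δ.hB r' (torChar D c r' * (-1)) * xU Δ.hB r (torChar D c r * (-1)) := by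
          rw [conj_tor Δ hc hk hr, conj_tor Δ hc hk hr', conj_tor Δ hc hk hr'']; group
      _ = xU Δ.hB r 1 * xU Δ.hB r' 1 * (xU Δ.hB r'' d *
            xU Δ.hB r' (torChar D c r' * (-1))) * xU Δ.hB r (torChar D c r * (-1)) := by
          rw [xU_mul, ← hd]; group
      _ = xU Δ.hB r 1 * xU Δ.hB r' 1 * (xU Δ.hB r' (torChar D c r' * (-1)) * xU Δ.hB r'' d) *
            xU Δ.hB r (torChar D c r * (-1)) := by
          rw [(c23 _ _).eq]
      _ = xU Δ.hB r 1 * (xU Δ.hB r' 1 * xU Δ.hB r' (torChar D c r' * (-1))) *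
            (xU Δ.hB r'' d * xU Δ.hB r (torChar D c r * (-1))) := by group
      _ = xU Δ.hB r 1 * xU Δ.hB r' b *
            (xU Δ.hB r (torChar D c r * (-1)) * xU Δ.hB r'' d) := by
          rw [xU_mul, ← hb, (c13 _ _).eq]
      _ = xU Δ.hB r 1 * (xU Δ.hB r' b * xU Δ.hB r (torChar D c r * (-1))) * xU Δ.hB r'' d := by
          group
      _ = xU Δ.hB r 1 * (xU Δ.hB r (torChar D c r * (-1)) * xU Δ.hB r' b) * xU Δ.hB r'' d := by
          rw [(c12 _ _).eq]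
      _ = (xU Δ.hB r 1 * xU Δ.hB r (torChar D c r * (-1))) * xU Δ.hB r' b * xU Δ.hB r'' d := by
          group
      _ = _ := by rw [xU_mul, ← ha]
  rw [e] at h
  obtain ⟨c', _, hv'⟩ := exists_torMat_of_mem_diagonal Δ.hB Δ.hH h
  have hv1 : D.x F r a * (D.x F r' b * D.x F r'' d) = torMat D F c' := by
    rw [← hv', Units.val_mul, Units.val_mul, xU_val, xU_val, xU_val, mul_assoc]
  have hv2 : D.x F r' b * (D.x F r a * D.x F r'' d) = torMat D F c' := by
    rw [← hv', (c12 a b).eq, Units.val_mul, Units.val_mul, xU_val, xU_val, xU_val, mul_assoc]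
  have hv3 : D.x F r'' d * (D.x F r a * D.x F r' b) = torMat D F c' := by
    have e3 : xU Δ.hB r a * xU Δ.hB r' b * xU Δ.hB r'' d =
        xU Δ.hB r'' d * (xU Δ.hB r a * xU Δ.hB r' b) :=
      ((c13 a d).mul_left (c23 b d)).eq
    rw [← hv', e3, Units.val_mul, Units.val_mul, xU_val, xU_val, xU_val]
  have hM1 : (D.x F r' b * D.x F r'' d).mulVec (ev D F (D.neg r)) = ev D F (D.neg r) := by
    rw [← Matrix.mulVec_mulVec, x_fix_ev Δ f31, x_fix_ev Δ f21]
  have hM2 : (D.x F r a * D.x F r'' d).mulVec (ev D F (D.neg r')) = ev D F (D.neg r') := by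
    rw [← Matrix.mulVec_mulVec, x_fix_ev Δ f32, x_fix_ev Δ f12]
  have hM3 : (D.x F r a * D.x F r' b).mulVec (ev D F (D.neg r'')) = ev D F (D.neg r'') := by
    rw [← Matrix.mulVec_mulVec, x_fix_ev Δ f23, x_fix_ev Δ f13]
  have ha0 := eq_zero_of_mul_eq_torMat Δ hr hM1 hv1
  have hb0 := eq_zero_of_mul_eq_torMat Δ hr' hM2 hv2
  have hd0 := eq_zero_of_mul_eq_torMat Δ hr'' hM3 hv3
  rw [ha] at ha0
  rw [hb] at hb0
  rw [hd] at hd0
  exact ⟨by linear_combination -ha0, by linear_combination -hb0, by linear_combination -hd0⟩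

end chars

/-- the generic statement: the core of `B ∩ G` in `G` is trivial -/
theorem core_eq_bot (Δ : BNData D F) (G : Subgroup (GL D.Idx F)) {n : GL D.Idx F}
    (hnG : n ∈ G) (hnN : n ∈ D.monomialSubgroup F)
    (hnU : (D.posUnipotent F).map (MulAut.conj n).toMonoidHom = D.negUnipotent F)
    (hstep : ∀ (k : GL D.Idx F) (c : ℕ → F), (∀ i, c i ≠ 0) →
      (k : Matrix D.Idx D.Idx F) = torMat D F c →
      (∀ x ∈ G, x * k * x⁻¹ * k⁻¹ ∈ D.diagonalSubgroup F) →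
      ∀ i < D.rank, torChar D c (D.simple i) = 1) :
    ((D.borelSubgroup F ⊓ G).subgroupOf G).normalCore = ⊥ := by
  rw [eq_bot_iff]
  intro k hk
  rw [Subgroup.mem_bot]
  have hkH := core_le_diagonal Δ G hnG hnN hnU hk
  obtain ⟨c, hc, hkv⟩ := exists_torMat_of_mem_diagonal Δ.hB Δ.hH hkH
  have hall : ∀ x ∈ G, x * (k : GL D.Idx F) * x⁻¹ * (k : GL D.Idx F)⁻¹ ∈ D.diagonalSubgroup F := by
    intro x hx
    have hx1 : (⟨x, hx⟩ : G) * k * (⟨x, hx⟩ : G)⁻¹ ∈
        ((D.borelSubgroup F ⊓ G).subgroupOf G).normalCore :=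
      (Subgroup.normalCore_normal _).conj_mem k hk _
    have hx2 : (⟨x, hx⟩ : G) * k * (⟨x, hx⟩ : G)⁻¹ * k⁻¹ ∈
        ((D.borelSubgroup F ⊓ G).subgroupOf G).normalCore :=
      Subgroup.mul_mem _ hx1 (Subgroup.inv_mem _ hk)
    have hx3 := core_le_diagonal Δ G hnG hnN hnU hx2
    simpa only [Subgroup.coe_mul, Subgroup.coe_inv] using hx3
  have hχ := torChar_eq_one_of_simple Δ hc (hstep _ c hc hkv hall)
  apply Subtype.ext
  apply Units.ext
  rw [hkv]
  unfold torMat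
  rw [dMat_congr (χ' := fun _ => (1 : F)) hχ, dMat_one_one]
  rfl

end Cfsg.Agent.Helper2.Tw
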