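import Mathlib

set_option autoImplicit false
set_option linter.unusedSectionVars false
set_option linter.unusedSimpArgs false
set_option linter.unusedVariables false

/-!
# An abstract root class of type `B₂` in characteristic 2, twisted by `θ` with `θ² ∘ Frob = id`

The elements `β(t, u) = A(θ t) B(t) C(θ t · t + u) E((θ u)²)` form a group, and a torus element
acting by `(θ b, b, θ b · b, (θ b)² b)` with `b ≠ 0, 1` makes each of them a commutator.
-/

namespace Cfsg.Agent.Helper2.Tw

open scoped commutatorElement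

section abstractB2

variable {M : Type*} [Group M] {F : Type*} [Field F]

/-- four one-parameter subgroups with the commutator relations of a positive system of type `B₂`
in characteristic 2 (`A` short simple, `B` long simple, `C = A + B`, `E = 2A + B`) -/
structure B2Data (A B C E : F → M) : Prop where
  addA : ∀ s t, A (s + t) = A s * A t
  addB : ∀ s t, B (s + t) = B s * B t
  addC : ∀ s t, C (s + t) = C s * C t
  addE : ∀ s t, E (s + t) = E s * E t
  hBA : ∀ t u, B u * A t = A t * B u * (C (t * u) * E (t ^ 2 * u))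
  cCA : ∀ s t, Commute (C s) (A t)
  cCB : ∀ s t, Commute (C s) (B t)
  cEA : ∀ s t, Commute (E s) (A t)
  cEB : ∀ s t, Commute (E s) (B t)
  cCE : ∀ s t, Commute (C s) (E t)

/-- the twisted class element -/
def beta (θ : F →+* F) (A B C E : F → M) (t u : F) : M :=
  A (θ t) * B t * (C (θ t * t + u) * E (θ u ^ 2))

variable {A B C E : F → M}

theorem B2Data.zeroA (H : B2Data A B C E) : A 0 = 1 := by
  have h : A 0 * A 0 = A 0 * 1 := by rw [mul_one, ← H.addA, add_zero]
  exact mul_left_cancel h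

theorem B2Data.zeroB (H : B2Data A B C E) : B 0 = 1 := by
  have h : B 0 * B 0 = B 0 * 1 := by rw [mul_one, ← H.addB, add_zero]
  exact mul_left_cancel h

theorem B2Data.zeroC (H : B2Data A B C E) : C 0 = 1 := by
  have h : C 0 * C 0 = C 0 * 1 := by rw [mul_one, ← H.addC, add_zero]
  exact mul_left_cancel h

theorem B2Data.zeroE (H : B2Data A B C E) : E 0 = 1 := by
  have h : E 0 * E 0 = E 0 * 1 := by rw [mul_one, ← H.addE, add_zero]
  exact mul_left_cancel h

theorem B2Data.mul4 (H : B2Data A B C E) (a t c e a' t' c' e' : F) :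
    (A a * B t * (C c * E e)) * (A a' * B t' * (C c' * E e')) =
      A (a + a') * B (t + t') * (C (a' * t + c + c') * E (a' ^ 2 * t + e + e')) := by
  have hZ : Commute (C c * E e) (A a' * B t') :=
    ((H.cCA c a').mul_right (H.cCB c t')).mul_left ((H.cEA e a').mul_right (H.cEB e t'))
  have hZ3 : Commute (C (a' * t) * E (a' ^ 2 * t)) (B t') :=
    (H.cCB _ t').mul_left (H.cEB _ t')
  have hZZ : C (a' * t) * E (a' ^ 2 * t) * (C c * E e) * (C c' * E e') =
      C (a' * t + c + c') * E (a' ^ 2 * t + e + e') := by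
    have s1 : E e * (C c' * E e') = C c' * (E e * E e') := (H.cCE c' e).symm.left_comm _
    have s2 : ∀ X, E (a' ^ 2 * t) * (C c * X) = C c * (E (a' ^ 2 * t) * X) :=
      fun X => (H.cCE c (a' ^ 2 * t)).symm.left_comm X
    have s3 : ∀ X, E (a' ^ 2 * t) * (C c' * X) = C c' * (E (a' ^ 2 * t) * X) :=
      fun X => (H.cCE c' (a' ^ 2 * t)).symm.left_comm X
    rw [H.addC, H.addC, H.addE, H.addE]
    simp only [mul_assoc]
    rw [s1, s2, s3]
  calc (A a * B t * (C c * E e)) * (A a' * B t' * (C c' * E e'))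
      = A a * B t * ((C c * E e) * (A a' * B t')) * (C c' * E e') := by simp only [mul_assoc]
    _ = A a * B t * ((A a' * B t') * (C c * E e)) * (C c' * E e') := by rw [hZ.eq]
    _ = A a * (B t * A a') * B t' * (C c * E e) * (C c' * E e') := by simp only [mul_assoc]
    _ = A a * (A a' * B t * (C (a' * t) * E (a' ^ 2 * t))) * B t' * (C c * E e) * (C c' * E e') := by
        rw [H.hBA]
    _ = A a * A a' * B t * ((C (a' * t) * E (a' ^ 2 * t)) * B t') * (C c * E e) * (C c' * E e') := by
        simp only [mul_assoc]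
    _ = A a * A a' * B t * (B t' * (C (a' * t) * E (a' ^ 2 * t))) * (C c * E e) * (C c' * E e') := by
        rw [hZ3.eq]
    _ = (A a * A a') * (B t * B t') *
          (C (a' * t) * E (a' ^ 2 * t) * (C c * E e) * (C c' * E e')) := by simp only [mul_assoc]
    _ = _ := by rw [← H.addA, ← H.addB, hZZ]

variable [CharP F 2] (θ : F →+* F) (hθ : ∀ x, θ (θ x) ^ 2 = x)
include hθ

theorem B2Data.beta_mul (H : B2Data A B C E) (t u t' u' : F) :
    beta θ A B C E t u * beta θ A B C E t' u' =
      beta θ A B C E (t + t') (u + u' + θ t * t') := by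
  have h2 : (2 : F) = 0 := CharTwo.two_eq_zero
  unfold beta
  rw [H.mul4]
  have e1 : θ t + θ t' = θ (t + t') := (map_add θ t t').symm
  have e2 : θ t' * t + (θ t * t + u) + (θ t' * t' + u') =
      θ (t + t') * (t + t') + (u + u' + θ t * t') := by
    rw [map_add]
    linear_combination (-(θ t * t')) * h2
  have e3 : θ t' ^ 2 * t + θ u ^ 2 + θ u' ^ 2 = θ (u + u' + θ t * t') ^ 2 := by
    rw [map_add, map_add, map_mul]
    linear_combination (-(θ t') ^ 2) * hθ t +
      (-(θ u * θ u' + θ u * θ (θ t) * θ t' + θ u' * θ (θ t) * θ t')) * h2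
  rw [e1, e2, e3]

theorem B2Data.beta_zero (H : B2Data A B C E) : beta θ A B C E 0 0 = 1 := by
  unfold beta
  simp only [map_zero, zero_mul, add_zero, ne_eq, OfNat.ofNat_ne_zero, not_false_eq_true,
    zero_pow, H.zeroA, H.zeroB, H.zeroC, H.zeroE, mul_one]

theorem B2Data.beta_inv (H : B2Data A B C E) (t u : F) :
    (beta θ A B C E t u)⁻¹ = beta θ A B C E t (u + θ t * t) := by
  apply inv_eq_of_mul_eq_one_right
  rw [H.beta_mul θ hθ]
  have e1 : t + t = 0 := CharTwo.add_self_eq_zero t
  have e2 : u + (u + θ t * t) + θ t * t = 0 := by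
    have h2 : (2 : F) = 0 := CharTwo.two_eq_zero
    linear_combination (u + θ t * t) * h2
  rw [e1, e2]
  exact H.beta_zero θ hθ

/-- every class element is a commutator, given a torus element acting through `b ≠ 0, 1` -/
theorem B2Data.beta_mem_commutator (H : B2Data A B C E) (G : Subgroup M)
    (hgen : ∀ t u, beta θ A B C E t u ∈ G) {b : F} (hb0 : b ≠ 0) (hb1 : b ≠ 1)
    {h : M} (hh : h ∈ G)
    (hcA : ∀ t, h * A t * h⁻¹ = A (θ b * t)) (hcB : ∀ t, h * B t * h⁻¹ = B (b * t))
    (hcC : ∀ t, h * C t * h⁻¹ = C (θ b * b * t))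
    (hcE : ∀ t, h * E t * h⁻¹ = E (θ b ^ 2 * b * t)) (t₀ u₀ : F) :
    beta θ A B C E t₀ u₀ ∈ ⁅G, G⁆ := by
  have h2 : (2 : F) = 0 := CharTwo.two_eq_zero
  have hb1' : b + 1 ≠ 0 := by
    intro h0
    apply hb1
    have := eq_neg_of_add_eq_zero_left h0
    rwa [CharTwo.neg_eq] at this
  have hμ : θ b * b + 1 ≠ 0 := by
    intro h0
    have hμ1 : θ b * b = 1 := by
      have := eq_neg_of_add_eq_zero_left h0
      rwa [CharTwo.neg_eq] at this
    have hθb : θ b ≠ 0 := left_ne_zero_of_mul_eq_one hμ1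
    have h3 : θ (θ b) * θ b = 1 := by rw [← map_mul, hμ1, map_one]
    have h4 : θ (θ b) = b := by
      apply mul_right_cancel₀ hθb
      rw [h3, mul_comm, hμ1]
    have h5 := hθ b
    rw [h4, pow_two] at h5
    apply hb1
    have h6 : b * b = b * 1 := by rw [h5, mul_one]
    exact mul_left_cancel₀ hb0 h6
  obtain ⟨t, ht⟩ : ∃ t, t = t₀ / (b + 1) := ⟨_, rfl⟩
  obtain ⟨u, hu⟩ : ∃ u, u = (u₀ - (1 + θ b) * (θ t * t)) / (θ b * b + 1) := ⟨_, rfl⟩
  have ht' : (b + 1) * t = t₀ := by rw [ht]; field_simp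
  have hu' : (θ b * b + 1) * u + (1 + θ b) * (θ t * t) = u₀ := by rw [hu]; field_simp; ring
  have hmul : ∀ x y : M, h * (x * y) * h⁻¹ = (h * x * h⁻¹) * (h * y * h⁻¹) := by
    intro x y; group
  have hconj : h * beta θ A B C E t u * h⁻¹ = beta θ A B C E (b * t) (θ b * b * u) := by
    unfold beta
    rw [hmul, hmul, hmul, hcA, hcB, hcC, hcE]
    have e1 : θ b * θ t = θ (b * t) := (map_mul θ b t).symm
    have e2 : θ b * b * (θ t * t + u) = θ (b * t) * (b * t) + θ b * b * u := by
      rw [map_mul]; ring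
    have e3 : θ b ^ 2 * b * θ u ^ 2 = θ (θ b * b * u) ^ 2 := by
      rw [map_mul, map_mul, mul_pow, mul_pow, hθ b]; ring
    rw [e1, e2, e3]
  have key : beta θ A B C E t₀ u₀ = ⁅h, beta θ A B C E t u⁆ := by
    rw [commutatorElement_def, hconj, H.beta_inv θ hθ, H.beta_mul θ hθ]
    have e1 : b * t + t = t₀ := by rw [← ht']; ring
    have e2 : θ b * b * u + (u + θ t * t) + θ (b * t) * t = u₀ := by
      rw [← hu', map_mul]; ring
    rw [e1, e2]
  rw [key]
  exact Subgroup.commutator_mem_commutator hh (hgen t u)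

end abstractB2

/-! ### finite fields of characteristic 2 -/

theorem charP_two_of_card (K : Type*) [Field K] [Fintype K] {n : ℕ}
    (hK : Fintype.card K = 2 ^ n) (hn : n ≠ 0) : CharP K 2 := by
  obtain ⟨p, hchar, k, hp, hcard⟩ := FiniteField.card' K
  have h2 : 2 = p := by
    have h1 : 2 ∣ p ^ (k : ℕ) := by
      rw [← hcard, hK]
      exact dvd_pow_self 2 hn
    exact (Nat.prime_dvd_prime_iff_eq Nat.prime_two hp).1 (Nat.prime_two.dvd_of_dvd_pow h1)
  subst h2
  exact hchar

theorem zpow_neg_two_inv {K : Type*} [Field K] (x : K) : (x⁻¹) ^ (-2 : ℤ) = x ^ 2 := by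
  rw [zpow_neg, inv_zpow, inv_inv]
  exact zpow_ofNat x 2

theorem zpow_two' {K : Type*} [Field K] (x : K) : x ^ (2 : ℤ) = x ^ 2 := zpow_ofNat x 2

theorem zpow_neg_two' {K : Type*} [Field K] (x : K) : x ^ (-2 : ℤ) = (x⁻¹) ^ 2 := by
  rw [zpow_neg, inv_pow]
  congr 1
  exact zpow_ofNat x 2

end Cfsg.Agent.Helper2.Tw
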