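import Mathlib
import Cfsg.Agent.Helper2.Tw.Basic
import Cfsg.Agent.Helper2.Tw.B2Abs
import Cfsg.Agent.Helper6.Chev.UProd
import Cfsg.Prelude.Def_LieTwisted

set_option autoImplicit false
set_option linter.unusedSectionVars false
set_option linter.unusedSimpArgs false
set_option linter.unusedVariables false

/-! # `²F₄(2^(2m+1))`, `m ≥ 1`, is perfect -/

namespace Cfsg.Agent.Helper2.Tw

open Cfsg.Lie Cfsg.Agent.Helper6 Cfsg.Agent.Helper2.St2F Cfsg.Agent.Helper2.ChevSL2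
open scoped commutatorElement

/-! ### table predicates -/

/-- the table entry for `(a, b)` is `[(ab, c₁, 1, 1), (aab, c₂, 2, 1)]` with `c₁, c₂ = ±1` -/
def DoubleOK (D : ChevalleyDatum) (a b ab aab : ℕ) (c₁ c₂ : ℤ) : Prop :=
  a < D.nroots ∧ b < D.nroots ∧ b ≠ a ∧ b ≠ D.neg a ∧
    D.commTerms a b = [(ab, c₁, 1, 1), (aab, c₂, 2, 1)] ∧ c₁ * c₁ = 1 ∧ c₂ * c₂ = 1

instance (D : ChevalleyDatum) (a b ab aab : ℕ) (c₁ c₂ : ℤ) : Decidable (DoubleOK D a b ab aab c₁ c₂) := by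
  unfold DoubleOK; infer_instance

/-- the table entry for `(a, b)` is the single term `(r, c, 1, 1)` with `c` even -/
def EvenOK (D : ChevalleyDatum) (a b r : ℕ) (c : ℤ) : Prop :=
  a < D.nroots ∧ b < D.nroots ∧ b ≠ a ∧ b ≠ D.neg a ∧ D.commTerms a b = [(r, c, 1, 1)] ∧ c % 2 = 0

instance (D : ChevalleyDatum) (a b r : ℕ) (c : ℤ) : Decidable (EvenOK D a b r c) := by
  unfold EvenOK; infer_instance

/-- the commutator table of a positive system `a, b, a+b, 2a+b` of type `B₂` -/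
def ClassOK (D : ChevalleyDatum) (a b ab aab : ℕ) (c₁ c₂ c₃ : ℤ) : Prop :=
  DoubleOK D a b ab aab c₁ c₂ ∧ EvenOK D a ab aab c₃ ∧ CommNil D a aab ∧ CommNil D b ab ∧
    CommNil D b aab ∧ CommNil D ab aab

instance (D : ChevalleyDatum) (a b ab aab : ℕ) (c₁ c₂ c₃ : ℤ) :
    Decidable (ClassOK D a b ab aab c₁ c₂ c₃) := by
  unfold ClassOK; infer_instance

section char2

variable {D : ChevalleyDatum} {F : Type*} [Field F] [CharP F 2]

theorem intCast_eq_one_of_sq {c : ℤ} (hc : c * c = 1) : ((c : ℤ) : F) = 1 := by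
  rcases Int.eq_one_or_neg_one_of_mul_eq_one hc with rfl | rfl
  · simp
  · rw [Int.cast_neg, Int.cast_one, CharTwo.neg_eq]

theorem intCast_eq_zero_of_even {c : ℤ} (hc : c % 2 = 0) : ((c : ℤ) : F) = 0 := by
  obtain ⟨k, rfl⟩ := Int.dvd_of_emod_eq_zero hc
  rw [Int.cast_mul, Int.cast_ofNat, CharTwo.two_eq_zero, zero_mul]

theorem commute_of_evenOK (Δ : BNData D F) {a b r : ℕ} {c : ℤ} (h : EvenOK D a b r c) (t u : F) :
    Commute (xU Δ.hB a t) (xU Δ.hB b u) := by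
  obtain ⟨ha, hb, h1, h2, hT, hc⟩ := h
  have hC := Δ.hC a ha b hb h1 h2
  have h1 : xU Δ.hB b u * xU Δ.hB a t =
      xU Δ.hB a t * xU Δ.hB b u * wordU Δ.hB (D.commWord F a b t u) := by
    apply Units.ext
    simp only [Units.val_mul, xU_val, wordU_val]
    exact hC t u
  have e : D.commWord F a b t u = [(r, 0)] := by
    unfold ChevalleyDatum.commWord
    rw [hT]
    simp only [List.map_cons, List.map_nil, pow_one]
    rw [intCast_eq_zero_of_even hc, zero_mul, zero_mul]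
  rw [e] at h1
  simp only [wordU_cons, wordU_nil, mul_one, xU_zero] at h1
  exact h1.symm

theorem double_comm (Δ : BNData D F) {a b ab aab : ℕ} {c₁ c₂ : ℤ}
    (h : DoubleOK D a b ab aab c₁ c₂) (t u : F) :
    xU Δ.hB b u * xU Δ.hB a t =
      xU Δ.hB a t * xU Δ.hB b u * (xU Δ.hB ab (t * u) * xU Δ.hB aab (t ^ 2 * u)) := by
  obtain ⟨ha, hb, h1, h2, hT, hc1, hc2⟩ := h
  have hC := Δ.hC a ha b hb h1 h2
  have h1 : xU Δ.hB b u * xU Δ.hB a t =
      xU Δ.hB a t * xU Δ.hB b u * wordU Δ.hB (D.commWord F a b t u) := by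
    apply Units.ext
    simp only [Units.val_mul, xU_val, wordU_val]
    exact hC t u
  have e : D.commWord F a b t u = [(ab, t * u), (aab, t ^ 2 * u)] := by
    unfold ChevalleyDatum.commWord
    rw [hT]
    simp only [List.map_cons, List.map_nil, pow_one]
    rw [intCast_eq_one_of_sq hc1, intCast_eq_one_of_sq hc2, CharTwo.neg_eq, one_mul, one_mul]
  rw [e] at h1
  simp only [wordU_cons, wordU_nil, mul_one] at h1
  exact h1

theorem b2Data_of_classOK (Δ : BNData D F) {a b ab aab : ℕ} {c₁ c₂ c₃ : ℤ}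
    (h : ClassOK D a b ab aab c₁ c₂ c₃) :
    B2Data (xU Δ.hB a : F → GL D.Idx F) (xU Δ.hB b) (xU Δ.hB ab) (xU Δ.hB aab) where
  addA := fun s t => (Cfsg.Agent.Helper6.xU_mul Δ.hB a s t).symm
  addB := fun s t => (Cfsg.Agent.Helper6.xU_mul Δ.hB b s t).symm
  addC := fun s t => (Cfsg.Agent.Helper6.xU_mul Δ.hB ab s t).symm
  addE := fun s t => (Cfsg.Agent.Helper6.xU_mul Δ.hB aab s t).symm
  hBA := fun t u => double_comm Δ h.1 t u
  cCA := fun s t => (commute_of_evenOK Δ h.2.1 t s).symm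
  cCB := fun s t => (commute_of_commNil Δ h.2.2.2.1 t s).symm
  cEA := fun s t => (commute_of_commNil Δ h.2.2.1 t s).symm
  cEB := fun s t => (commute_of_commNil Δ h.2.2.2.2.1 t s).symm
  cCE := fun s t => commute_of_commNil Δ h.2.2.2.2.2 s t

end char2

/-! ### torus elements in the image of a twisted product of two `SL₂`'s -/

section torus

variable {K : Type*} [Field K] {D : ChevalleyDatum}

/-- the element `diag(c, c⁻¹)` of `SL₂` as a word in the unitriangular elements -/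
noncomputable def hSL (c : K) : Matrix.SpecialLinearGroup (Fin 2) K :=
  upperSL c * lowerSL (-c⁻¹) * upperSL c * (upperSL (-1) * lowerSL (-(-1 : K)⁻¹) * upperSL (-1))

theorem map_hSL (σ : K →+* K) (c : K) : Matrix.SpecialLinearGroup.map σ (hSL c) = hSL (σ c) := by
  unfold hSL
  simp only [map_mul, map_upperSL, map_lowerSL, map_neg, map_inv₀, map_one]

theorem hom_hSL (hB : BasicOK D) {r : ℕ}
    {φ : Matrix.SpecialLinearGroup (Fin 2) K →* GL D.Idx K}
    (hu : ∀ t, φ (upperSL t) = xU hB r t) (hl : ∀ t, φ (lowerSL t) = xU hB (D.neg r) t) (c : K) :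
    ((φ (hSL c) : GL D.Idx K) : Matrix D.Idx D.Idx K) = D.hMat K r c := by
  unfold hSL
  simp only [map_mul, hu, hl, Units.val_mul, xU_val]
  rw [hMat_eq', nMat_eq', nMat_eq']

theorem exists_pair_tor (Δ : BNData D K) (hD : IsTabulated D) {r r' : ℕ} (horth : Orth D r r')
    (σ : K →+* K) (G : Subgroup (GL D.Idx K))
    (hu : ∀ t, xU Δ.hB r t * xU Δ.hB r' (σ t) ∈ G)
    (hl : ∀ t, xU Δ.hB (D.neg r) t * xU Δ.hB (D.neg r') (σ t) ∈ G) (c : K) :
    ∃ h ∈ G, ((h : GL D.Idx K) : Matrix D.Idx D.Idx K) = D.hMat K r c * D.hMat K r' (σ c) := by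
  have hr : r < D.nroots := horth.1.1
  have hr' : r' < D.nroots := horth.1.2.1
  obtain ⟨φ₁, h1u, h1l⟩ := hasSL2_of_tabulated (F := K) hD hr
  obtain ⟨φ₂, h2u, h2l⟩ := hasSL2_of_tabulated (F := K) hD hr'
  have comm := commute_hom_of_orth Δ horth h1u h1l h2u h2l
  obtain ⟨ψ, hψ⟩ : ∃ ψ : Matrix.SpecialLinearGroup (Fin 2) K →* GL D.Idx K,
      ∀ g, ψ g = φ₁ g * φ₂ (Matrix.SpecialLinearGroup.map σ g) :=
    ⟨(MonoidHom.noncommCoprod φ₁ φ₂ comm).comp
      ((MonoidHom.id _).prod (Matrix.SpecialLinearGroup.map σ)), fun g => by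
      rw [MonoidHom.comp_apply, MonoidHom.prod_apply, MonoidHom.noncommCoprod_apply,
        MonoidHom.id_apply]⟩
  refine ⟨ψ (hSL c), ?_, ?_⟩
  · apply mem_of_hom ψ G
    · intro t
      rw [hψ, map_upperSL, h1u, h2u]
      exact hu t
    · intro t
      rw [hψ, map_lowerSL, h1l, h2l]
      exact hl t
  · rw [hψ, map_hSL, Units.val_mul, hom_hSL Δ.hB h1u h1l, hom_hSL Δ.hB h2u h2l]

theorem tor2_conj (Δ : BNData D K) {i j : ℕ} (hi : i < D.rank) (hj : j < D.rank) {c d : K}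
    (hc : c ≠ 0) (hd : d ≠ 0) {h : GL D.Idx K}
    (hh : (h : Matrix D.Idx D.Idx K) = D.hMat K (D.simple i) c * D.hMat K (D.simple j) d)
    {s : ℕ} (hs : s < D.nroots) (t : K) :
    h * xU Δ.hB s t * h⁻¹ = xU Δ.hB s (c ^ D.cartan i s * (d ^ D.cartan j s * t)) := by
  rw [mul_inv_eq_iff_eq_mul]
  apply Units.ext
  simp only [Units.val_mul, xU_val, hh]
  have hAi := Δ.hAll i hi
  have hAj := Δ.hAll j hj
  calc D.hMat K (D.simple i) c * D.hMat K (D.simple j) d * D.x K s t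
      = D.hMat K (D.simple i) c * (D.hMat K (D.simple j) d * D.x K s t) := mul_assoc _ _ _
    _ = D.hMat K (D.simple i) c * (D.x K s (d ^ D.cartan j s * t) * D.hMat K (D.simple j) d) := by
        rw [hMat_mul_x Δ.hB hAj.hS hAj.hR (Δ.hAdd j hj) hj hs hd]
    _ = (D.hMat K (D.simple i) c * D.x K s (d ^ D.cartan j s * t)) * D.hMat K (D.simple j) d :=
        (mul_assoc _ _ _).symm
    _ = (D.x K s (c ^ D.cartan i s * (d ^ D.cartan j s * t)) * D.hMat K (D.simple i) c) *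
          D.hMat K (D.simple j) d := by
        rw [hMat_mul_x Δ.hB hAi.hS hAi.hR (Δ.hAdd i hi) hi hs hc]
    _ = _ := mul_assoc _ _ _

theorem pair_val (hB : BasicOK D) (e : ℕ) (r r' : ℕ) (t : K) :
    ((xU hB r (t ^ e) * xU hB r' t : GL D.Idx K) : Matrix D.Idx D.Idx K) =
      D.wordMat K (f4PairWord e r r' t) := by
  simp [ChevalleyDatum.wordMat, xU_val, f4PairWord]

theorem beta_val (hB : BasicOK D) (θ : K →+* K) (e : ℕ) (hθdef : ∀ t, θ t = t ^ e)
    (a b ab aab : ℕ) (t u : K) :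
    ((beta θ (xU hB a) (xU hB b) (xU hB ab) (xU hB aab) t u : GL D.Idx K) :
      Matrix D.Idx D.Idx K) = D.wordMat K (b2ClassWord e a b ab aab t u) := by
  unfold beta b2ClassWord
  rw [hθdef, hθdef, ← pow_succ, ← pow_mul']
  simp [ChevalleyDatum.wordMat, xU_val, mul_assoc]

end torus

/-! ### the tables of `F₄` -/

theorem tabF4 : IsTabulated chevF4 := by simp [IsTabulated]

set_option maxRecDepth 100000 in
theorem f4_orth : Orth chevF4 24 33 := by decide +kernel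

set_option maxRecDepth 100000 in
theorem f4_negs : chevF4.neg 24 = 23 ∧ chevF4.neg 33 = 14 := by decide +kernel

set_option maxRecDepth 100000 in
theorem f4_simple : chevF4.simple 3 = 24 ∧ chevF4.simple 0 = 33 ∧ chevF4.rank = 4 ∧
    chevF4.nroots = 48 := by decide +kernel

set_option maxRecDepth 100000 in
theorem f4_classP : ClassOK chevF4 27 25 28 30 (-1) (-1) 2 := by decide +kernel

set_option maxRecDepth 100000 in
theorem f4_classN : ClassOK chevF4 20 22 19 17 1 (-1) (-2) := by decide +kernel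

set_option maxRecDepth 100000 in
theorem f4_cartanP : chevF4.cartan 3 27 = 0 ∧ chevF4.cartan 0 27 = -1 ∧ chevF4.cartan 3 25 = -1 ∧
    chevF4.cartan 0 25 = 0 ∧ chevF4.cartan 3 28 = -1 ∧ chevF4.cartan 0 28 = -1 ∧
    chevF4.cartan 3 30 = -1 ∧ chevF4.cartan 0 30 = -2 := by decide +kernel

set_option maxRecDepth 100000 in
theorem f4_cartanN : chevF4.cartan 3 20 = 0 ∧ chevF4.cartan 0 20 = 1 ∧ chevF4.cartan 3 22 = 1 ∧
    chevF4.cartan 0 22 = 0 ∧ chevF4.cartan 3 19 = 1 ∧ chevF4.cartan 0 19 = 1 ∧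
    chevF4.cartan 3 17 = 1 ∧ chevF4.cartan 0 17 = 2 := by decide +kernel

/-! ### the theorem -/

theorem twistedF4_perfect {K : Type*} [Field K] [Fintype K] {m : ℕ}
    (hK : Fintype.card K = 2 ^ (2 * m + 1)) (hm : 1 ≤ m) :
    commutator ↥(twistedF4 K (2 ^ m)) = ⊤ := by
  apply commutator_eq_top_of_le
  have Δ := bnData_of_tabulated K tabF4
  have hchar : CharP K 2 := charP_two_of_card K hK (by omega)
  have hexp : ExpChar K 2 := ExpChar.prime Nat.prime_two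
  obtain ⟨θ, hθdef⟩ : ∃ θ : K →+* K, ∀ t, θ t = t ^ (2 ^ m) :=
    ⟨iterateFrobenius K 2 m, fun t => rfl⟩
  have hθ : ∀ x, θ (θ x) ^ 2 = x := by
    intro x
    rw [hθdef, hθdef, ← pow_mul, ← pow_mul]
    have : 2 ^ m * (2 ^ m * 2) = Fintype.card K := by rw [hK]; ring
    rw [this, FiniteField.pow_card]
  have hK4 : ∃ x : K, x ≠ 0 ∧ x ^ 2 ≠ 1 := by
    apply exists_sq_ne_one
    rw [hK]
    calc 4 = 2 ^ 2 := by norm_num
      _ ≤ 2 ^ (2 * m + 1) := Nat.pow_le_pow_right (by norm_num) (by omega)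
  obtain ⟨G, hG⟩ : ∃ G, G = twistedF4 K (2 ^ m) := ⟨_, rfl⟩
  rw [← hG]
  obtain ⟨o1, o2, o3, o4⟩ := f4_orth
  have c1 := commute_of_commNil (F := K) Δ o1
  have c4 := commute_of_commNil (F := K) Δ o4
  rw [f4_negs.1, f4_negs.2] at c4
  obtain ⟨hs3, hs0, hrank, hnroots⟩ := f4_simple
  -- the generators
  have genP : ∀ t : K, xU Δ.hB 24 t * xU Δ.hB 33 (θ t) ∈ G := by
    intro t
    rw [(c1 t (θ t)).eq, hG, hθdef]
    apply Subgroup.subset_closure
    exact ⟨f4PairWord (2 ^ m) f4p1 f4p4 t, Or.inl ⟨t, Or.inl rfl⟩, pair_val Δ.hB _ _ _ t⟩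
  have genN : ∀ t : K, xU Δ.hB 23 t * xU Δ.hB 14 (θ t) ∈ G := by
    intro t
    rw [(c4 t (θ t)).eq, hG, hθdef]
    apply Subgroup.subset_closure
    exact ⟨f4PairWord (2 ^ m) f4m1 f4m4 t, Or.inl ⟨t, Or.inr rfl⟩, pair_val Δ.hB _ _ _ t⟩
  have genCP : ∀ t u : K,
      beta θ (xU Δ.hB 27) (xU Δ.hB 25) (xU Δ.hB 28) (xU Δ.hB 30) t u ∈ G := by
    intro t u
    rw [hG]
    apply Subgroup.subset_closure
    exact ⟨b2ClassWord (2 ^ m) f4a f4b f4ab f4aab t u, Or.inr ⟨t, u, Or.inl rfl⟩,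
      beta_val Δ.hB θ _ hθdef _ _ _ _ t u⟩
  have genCN : ∀ t u : K,
      beta θ (xU Δ.hB 20) (xU Δ.hB 22) (xU Δ.hB 19) (xU Δ.hB 17) t u ∈ G := by
    intro t u
    rw [hG]
    apply Subgroup.subset_closure
    exact ⟨b2ClassWord (2 ^ m) f4ma f4mb f4mab f4maab t u, Or.inr ⟨t, u, Or.inr rfl⟩,
      beta_val Δ.hB θ _ hθdef _ _ _ _ t u⟩
  -- the class of type `A₁ × A₁`
  obtain ⟨ψ, hψu, hψl, -⟩ := exists_pair_hom Δ tabF4 f4_orth θ
  rw [f4_negs.1, f4_negs.2] at hψl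
  obtain ⟨cu, cl⟩ := mem_commutator_of_hom ψ G hK4
    (fun t => by rw [hψu]; exact genP t) (fun t => by rw [hψl]; exact genN t)
  -- torus elements
  obtain ⟨l, hl0, hl2⟩ := hK4
  have hl1 : l ≠ 1 := by
    rintro rfl
    exact hl2 (one_pow 2)
  have hθl0 : θ l ≠ 0 := (map_ne_zero θ).2 hl0
  have hli0 : l⁻¹ ≠ 0 := inv_ne_zero hl0
  have hθli0 : θ l⁻¹ ≠ 0 := (map_ne_zero θ).2 hli0
  have genN' : ∀ t : K, xU Δ.hB (chevF4.neg 24) t * xU Δ.hB (chevF4.neg 33) (θ t) ∈ G := by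
    intro t
    rw [f4_negs.1, f4_negs.2]
    exact genN t
  have hi3 : 3 < chevF4.rank := by rw [hrank]; norm_num
  have hi0 : 0 < chevF4.rank := by rw [hrank]; norm_num
  -- the positive class of type `B₂`
  have posClass : ∀ t u : K,
      beta θ (xU Δ.hB 27) (xU Δ.hB 25) (xU Δ.hB 28) (xU Δ.hB 30) t u ∈ ⁅G, G⁆ := by
    obtain ⟨h₁, hh₁, hv₁⟩ := exists_pair_tor Δ tabF4 f4_orth θ G genP genN' l⁻¹
    have hv₁' : (h₁ : Matrix chevF4.Idx chevF4.Idx K) =
        chevF4.hMat K (chevF4.simple 3) l⁻¹ * chevF4.hMat K (chevF4.simple 0) (θ l⁻¹) := by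
      rw [hs3, hs0]; exact hv₁
    have conj₁ : ∀ s, s < 48 → ∀ t : K, h₁ * xU Δ.hB s t * h₁⁻¹ =
        xU Δ.hB s (l⁻¹ ^ chevF4.cartan 3 s * ((θ l⁻¹) ^ chevF4.cartan 0 s * t)) :=
      fun s hs t => tor2_conj Δ hi3 hi0 hli0 hθli0 hv₁' (by rw [hnroots]; exact hs) t
    obtain ⟨k1, k2, k3, k4, k5, k6, k7, k8⟩ := f4_cartanP
    apply (b2Data_of_classOK Δ f4_classP).beta_mem_commutator θ hθ G genCP hl0 hl1 hh₁
    · intro t
      rw [conj₁ 27 (by norm_num), k1, k2]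
      congr 1
      simp only [zpow_zero, zpow_one, zpow_neg_one, map_inv₀, inv_inv, one_mul]
    · intro t
      rw [conj₁ 25 (by norm_num), k3, k4]
      congr 1
      simp only [zpow_zero, zpow_one, zpow_neg_one, map_inv₀, inv_inv, one_mul]
    · intro t
      rw [conj₁ 28 (by norm_num), k5, k6]
      congr 1
      simp only [zpow_zero, zpow_one, zpow_neg_one, map_inv₀, inv_inv, one_mul]
      ring
    · intro t
      rw [conj₁ 30 (by norm_num), k7, k8]
      congr 1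
      simp only [zpow_zero, zpow_one, zpow_neg_one, map_inv₀, inv_inv, one_mul, zpow_neg_two_inv]
      ring
  -- the negative class of type `B₂`
  have negClass : ∀ t u : K,
      beta θ (xU Δ.hB 20) (xU Δ.hB 22) (xU Δ.hB 19) (xU Δ.hB 17) t u ∈ ⁅G, G⁆ := by
    obtain ⟨h₂, hh₂, hv₂⟩ := exists_pair_tor Δ tabF4 f4_orth θ G genP genN' l
    have hv₂' : (h₂ : Matrix chevF4.Idx chevF4.Idx K) =
        chevF4.hMat K (chevF4.simple 3) l * chevF4.hMat K (chevF4.simple 0) (θ l) := by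
      rw [hs3, hs0]; exact hv₂
    have conj₂ : ∀ s, s < 48 → ∀ t : K, h₂ * xU Δ.hB s t * h₂⁻¹ =
        xU Δ.hB s (l ^ chevF4.cartan 3 s * ((θ l) ^ chevF4.cartan 0 s * t)) :=
      fun s hs t => tor2_conj Δ hi3 hi0 hl0 hθl0 hv₂' (by rw [hnroots]; exact hs) t
    obtain ⟨k1, k2, k3, k4, k5, k6, k7, k8⟩ := f4_cartanN
    apply (b2Data_of_classOK Δ f4_classN).beta_mem_commutator θ hθ G genCN hl0 hl1 hh₂
    · intro t
      rw [conj₂ 20 (by norm_num), k1, k2]
      congr 1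
      simp only [zpow_zero, zpow_one, one_mul]
    · intro t
      rw [conj₂ 22 (by norm_num), k3, k4]
      congr 1
      simp only [zpow_zero, zpow_one, one_mul]
    · intro t
      rw [conj₂ 19 (by norm_num), k5, k6]
      congr 1
      simp only [zpow_zero, zpow_one, one_mul]
      ring
    · intro t
      rw [conj₂ 17 (by norm_num), k7, k8]
      congr 1
      simp only [zpow_zero, zpow_one, one_mul, zpow_two']
      ring
  -- assembly
  have key : {g : GL chevF4.Idx K | ∃ w ∈ f4Words K (2 ^ m),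
      (g : Matrix chevF4.Idx chevF4.Idx K) = chevF4.wordMat K w} ⊆
      ((⁅G, G⁆ : Subgroup (GL chevF4.Idx K)) : Set (GL chevF4.Idx K)) := by
    rintro g ⟨w, hw, hgw⟩
    rcases hw with ⟨t, rfl | rfl⟩ | ⟨t, u, rfl | rfl⟩
    · have hg : g = xU Δ.hB 33 (θ t) * xU Δ.hB 24 t :=
        Units.ext (by rw [hgw, hθdef]; exact (pair_val Δ.hB _ _ _ t).symm)
      rw [hg, ← (c1 t (θ t)).eq, ← hψu]
      exact cu t
    · have hg : g = xU Δ.hB 14 (θ t) * xU Δ.hB 23 t :=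
        Units.ext (by rw [hgw, hθdef]; exact (pair_val Δ.hB _ _ _ t).symm)
      rw [hg, ← (c4 t (θ t)).eq, ← hψl]
      exact cl t
    · have hg : g = beta θ (xU Δ.hB 27) (xU Δ.hB 25) (xU Δ.hB 28) (xU Δ.hB 30) t u :=
        Units.ext (by rw [hgw]; exact (beta_val Δ.hB θ _ hθdef _ _ _ _ t u).symm)
      rw [hg]
      exact posClass t u
    · have hg : g = beta θ (xU Δ.hB 20) (xU Δ.hB 22) (xU Δ.hB 19) (xU Δ.hB 17) t u :=
        Units.ext (by rw [hgw]; exact (beta_val Δ.hB θ _ hθdef _ _ _ _ t u).symm)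
      rw [hg]
      exact negClass t u
  calc G = Subgroup.closure {g : GL chevF4.Idx K | ∃ w ∈ f4Words K (2 ^ m),
      (g : Matrix chevF4.Idx chevF4.Idx K) = chevF4.wordMat K w} := hG
    _ ≤ ⁅G, G⁆ := (Subgroup.closure_le _).2 key

end Cfsg.Agent.Helper2.Tw
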