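import Mathlib
import Cfsg.Agent.Helper2.Tw.Basic
import Cfsg.Prelude.Def_LieTwisted

set_option autoImplicit false
set_option linter.unusedSectionVars false
set_option linter.unusedSimpArgs false
set_option linter.unusedVariables false

/-! # `²E₆(q)` is perfect -/

namespace Cfsg.Agent.Helper2.Tw

open Cfsg.Lie Cfsg.Agent.Helper6 Cfsg.Agent.Helper2.St2F Cfsg.Agent.Helper2.ChevSL2
open scoped commutatorElement

theorem comm_self_le {M : Type*} [Group M] (G : Subgroup M) : ⁅G, G⁆ ≤ G := by
  rw [Subgroup.commutator_le]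
  intro a ha b hb
  rw [commutatorElement_def]
  exact G.mul_mem (G.mul_mem (G.mul_mem ha hb) (G.inv_mem ha)) (G.inv_mem hb)

theorem tabE6 : IsTabulated chevE6 := by simp [IsTabulated]

set_option maxRecDepth 100000 in
theorem e6_orth1 : Orth chevE6 56 36 := by decide +kernel
set_option maxRecDepth 100000 in
theorem e6_orth3 : Orth chevE6 42 37 := by decide +kernel
set_option maxRecDepth 100000 in
theorem e6_negs : chevE6.neg 56 = 15 ∧ chevE6.neg 36 = 35 ∧ chevE6.neg 42 = 29 ∧ chevE6.neg 37 = 34 := by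
  decide +kernel
set_option maxRecDepth 100000 in
theorem e6_s1 : SingleOK chevE6 46 39 47 (-1) := by decide +kernel
set_option maxRecDepth 100000 in
theorem e6_s2 : SingleOK chevE6 47 32 46 (-1) := by decide +kernel
set_option maxRecDepth 100000 in
theorem e6_s3 : SingleOK chevE6 25 32 24 1 := by decide +kernel
set_option maxRecDepth 100000 in
theorem e6_s4 : SingleOK chevE6 24 39 25 1 := by decide +kernel
set_option maxRecDepth 100000 in
theorem e6_s5 : SingleOK chevE6 39 46 47 1 := by decide +kernel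
set_option maxRecDepth 100000 in
theorem e6_s6 : SingleOK chevE6 47 25 39 1 := by decide +kernel
set_option maxRecDepth 100000 in
theorem e6_s7 : SingleOK chevE6 32 25 24 (-1) := by decide +kernel
set_option maxRecDepth 100000 in
theorem e6_s8 : SingleOK chevE6 24 46 32 (-1) := by decide +kernel

theorem twistedE6_perfect {K : Type*} [Field K] [Fintype K] {q : ℕ} (hq : IsPrimePow q)
    (hK : Fintype.card K = q ^ 2) : commutator ↥(twistedE6 K q) = ⊤ := by
  apply commutator_eq_top_of_le
  have Δ := bnData_of_tabulated K tabE6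
  obtain ⟨σ, hσ⟩ := exists_frob K hq hK two_ne_zero
  have hK4 : ∃ x : K, x ≠ 0 ∧ x ^ 2 ≠ 1 := by
    apply exists_sq_ne_one
    rw [hK]
    have : 2 ≤ q := hq.two_le
    nlinarith
  obtain ⟨G, hG⟩ : ∃ G, G = twistedE6 K q := ⟨_, rfl⟩
  rw [← hG]
  -- the generators
  have gen1 : ∀ t : K, t ^ q = t → ∀ r ∈ [46, 25, 39, 32], xU Δ.hB r t ∈ G := by
    intro t ht r hr
    rw [hG]
    apply Subgroup.subset_closure
    refine ⟨[(r, t)], Or.inl ⟨t, ht, r, hr, rfl⟩, ?_⟩
    simp [ChevalleyDatum.wordMat, xU_val]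
  have gen2 : ∀ t : K, ∀ rs ∈ [(56, 36), (15, 35), (42, 37), (29, 34)],
      xU Δ.hB rs.1 t * xU Δ.hB rs.2 (σ t) ∈ G := by
    intro t rs hrs
    rw [hG]
    apply Subgroup.subset_closure
    refine ⟨[(rs.1, t), (rs.2, t ^ q)], Or.inr ⟨t, rs, hrs, rfl⟩, ?_⟩
    simp [ChevalleyDatum.wordMat, xU_val, hσ]
  -- the fixed field
  obtain ⟨S, hSdef⟩ : ∃ S : Set K, S = {t | σ t = t} := ⟨_, rfl⟩
  have hS : ∀ (c : ℤ), ∀ t ∈ S, -((c : ℤ) : K) * t ∈ S := by
    intro c t ht
    rw [hSdef] at ht ⊢
    show σ (-(c : K) * t) = -(c : K) * t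
    rw [map_mul, map_neg, map_intCast, ht]
  have h1S : (1 : K) ∈ S := by rw [hSdef]; exact map_one σ
  have genS : ∀ r ∈ [46, 25, 39, 32], ∀ t ∈ S, xU Δ.hB r t ∈ G := by
    intro r hr t ht
    rw [hSdef] at ht
    exact gen1 t (by rw [← hσ]; exact ht) r hr
  have hle := comm_self_le G
  -- the classes over `K`
  obtain ⟨ψ₁, hu1, hl1, -⟩ := exists_pair_hom Δ tabE6 e6_orth1 σ
  rw [e6_negs.1, e6_negs.2.1] at hl1
  obtain ⟨c1u, c1l⟩ := mem_commutator_of_hom ψ₁ G hK4
    (fun t => by rw [hu1]; exact gen2 t (56, 36) (by simp))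
    (fun t => by rw [hl1]; exact gen2 t (15, 35) (by simp))
  obtain ⟨ψ₃, hu3, hl3, -⟩ := exists_pair_hom Δ tabE6 e6_orth3 σ
  rw [e6_negs.2.2.1, e6_negs.2.2.2] at hl3
  obtain ⟨c3u, c3l⟩ := mem_commutator_of_hom ψ₃ G hK4
    (fun t => by rw [hu3]; exact gen2 t (42, 37) (by simp))
    (fun t => by rw [hl3]; exact gen2 t (29, 34) (by simp))
  -- the classes over the fixed field
  have a47 := step_single Δ e6_s1 (hS _) (genS 46 (by simp)) (genS 39 (by simp) 1 h1S)
  have a46 := step_single Δ e6_s2 (hS _) (fun t ht => hle (a47 t ht)) (genS 32 (by simp) 1 h1S)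
  have a24 := step_single Δ e6_s3 (hS _) (genS 25 (by simp)) (genS 32 (by simp) 1 h1S)
  have a25 := step_single Δ e6_s4 (hS _) (fun t ht => hle (a24 t ht)) (genS 39 (by simp) 1 h1S)
  have b47 := step_single Δ e6_s5 (hS _) (genS 39 (by simp)) (genS 46 (by simp) 1 h1S)
  have a39 := step_single Δ e6_s6 (hS _) (fun t ht => hle (b47 t ht)) (genS 25 (by simp) 1 h1S)
  have b24 := step_single Δ e6_s7 (hS _) (genS 32 (by simp)) (genS 25 (by simp) 1 h1S)
  have a32 := step_single Δ e6_s8 (hS _) (fun t ht => hle (b24 t ht)) (genS 46 (by simp) 1 h1S)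
  -- assembly
  have key : {g : GL chevE6.Idx K | ∃ w ∈ e6Words K q,
      (g : Matrix chevE6.Idx chevE6.Idx K) = chevE6.wordMat K w} ⊆
      ((⁅G, G⁆ : Subgroup (GL chevE6.Idx K)) : Set (GL chevE6.Idx K)) := by
    rintro g ⟨w, hw, hgw⟩
    rcases hw with ⟨t, ht, r, hr, rfl⟩ | ⟨t, rs, hrs, rfl⟩
    · have hg : g = xU Δ.hB r t := by
        apply Units.ext
        rw [hgw, xU_val]
        simp [ChevalleyDatum.wordMat]
      rw [hg]
      have htS : t ∈ S := by
        rw [hSdef]
        show σ t = t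
        rw [hσ, ht]
      simp only [List.mem_cons, List.not_mem_nil, or_false] at hr
      rcases hr with rfl | rfl | rfl | rfl
      · exact a46 t htS
      · exact a25 t htS
      · exact a39 t htS
      · exact a32 t htS
    · have hg : g = xU Δ.hB rs.1 t * xU Δ.hB rs.2 (σ t) := by
        apply Units.ext
        rw [hgw]
        simp [ChevalleyDatum.wordMat, xU_val, hσ]
      rw [hg]
      simp only [List.mem_cons, List.not_mem_nil, or_false] at hrs
      rcases hrs with rfl | rfl | rfl | rfl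
      · have := c1u t
        rw [hu1] at this
        exact this
      · have := c1l t
        rw [hl1] at this
        exact this
      · have := c3u t
        rw [hu3] at this
        exact this
      · have := c3l t
        rw [hl3] at this
        exact this
  calc G = Subgroup.closure {g : GL chevE6.Idx K | ∃ w ∈ e6Words K q,
      (g : Matrix chevE6.Idx chevE6.Idx K) = chevE6.wordMat K w} := hG
    _ ≤ ⁅G, G⁆ := (Subgroup.closure_le _).2 key

end Cfsg.Agent.Helper2.Tw
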