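import Mathlib
import Cfsg.Agent.Helper2.Tw.E6Perf

set_option autoImplicit false
set_option linter.unusedSectionVars false
set_option linter.unusedSimpArgs false
set_option linter.unusedVariables false

/-! # `³D₄(q)` is perfect -/

namespace Cfsg.Agent.Helper2.Tw

open Cfsg.Lie Cfsg.Agent.Helper6 Cfsg.Agent.Helper2.St2F Cfsg.Agent.Helper2.ChevSL2
open scoped commutatorElement

theorem tabD4 : IsTabulated chevD4 := by simp [IsTabulated]

theorem eta3_cast {F : Type*} [Field F] (a b c : ℤ) (h : a * (b * c) = -1) (t : F) :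
    (a : F) * ((b : F) * ((c : F) * t)) = -t := by
  have h1 : ((a * (b * c) : ℤ) : F) = -1 := by rw [h]; simp
  calc (a : F) * ((b : F) * ((c : F) * t)) = ((a * (b * c) : ℤ) : F) * t := by push_cast; ring
    _ = -t := by rw [h1]; ring

set_option maxRecDepth 100000 in
theorem d4_orth12 : Orth chevD4 18 13 := by decide +kernel
set_option maxRecDepth 100000 in
theorem d4_orth13 : Orth chevD4 18 12 := by decide +kernel
set_option maxRecDepth 100000 in
theorem d4_orth23 : Orth chevD4 13 12 := by decide +kernel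
set_option maxRecDepth 100000 in
theorem d4_negs : chevD4.neg 18 = 5 ∧ chevD4.neg 13 = 10 ∧ chevD4.neg 12 = 11 := by decide +kernel
set_option maxRecDepth 100000 in
theorem d4_simple : chevD4.simple 0 = 18 ∧ chevD4.simple 2 = 13 ∧ chevD4.simple 3 = 12 := by
  decide +kernel
set_option maxRecDepth 100000 in
theorem d4_c14 : wR chevD4 18 (wR chevD4 13 (wR chevD4 12 14)) = 22 ∧
    etaR chevD4 18 (wR chevD4 13 (wR chevD4 12 14)) *
      (etaR chevD4 13 (wR chevD4 12 14) * etaR chevD4 12 14) = -1 := by decide +kernel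
set_option maxRecDepth 100000 in
theorem d4_c9 : wR chevD4 18 (wR chevD4 13 (wR chevD4 12 9)) = 1 ∧
    etaR chevD4 18 (wR chevD4 13 (wR chevD4 12 9)) *
      (etaR chevD4 13 (wR chevD4 12 9) * etaR chevD4 12 9) = -1 := by decide +kernel
set_option maxRecDepth 100000 in
theorem d4_s1 : SingleOK chevD4 14 22 23 1 := by decide +kernel
set_option maxRecDepth 100000 in
theorem d4_s2 : SingleOK chevD4 23 1 14 1 := by decide +kernel
set_option maxRecDepth 100000 in
theorem d4_s3 : SingleOK chevD4 9 1 0 (-1) := by decide +kernel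
set_option maxRecDepth 100000 in
theorem d4_s4 : SingleOK chevD4 0 22 9 (-1) := by decide +kernel

theorem twistedD4_perfect {K : Type*} [Field K] [Fintype K] {q : ℕ} (hq : IsPrimePow q)
    (hK : Fintype.card K = q ^ 3) : commutator ↥(twistedD4 K q) = ⊤ := by
  apply commutator_eq_top_of_le
  have Δ := bnData_of_tabulated K tabD4
  obtain ⟨σ, hσ⟩ := exists_frob K hq hK three_ne_zero
  have hσ2 : ∀ t, (σ.comp σ) t = t ^ (q ^ 2) := by
    intro t
    rw [RingHom.comp_apply, hσ, hσ, ← pow_mul, sq]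
  have hK4 : ∃ x : K, x ≠ 0 ∧ x ^ 2 ≠ 1 := by
    apply exists_sq_ne_one
    rw [hK]
    have : 2 ≤ q := hq.two_le
    nlinarith [pow_le_pow_left₀ (by norm_num : (0:ℕ) ≤ 2) this 3]
  obtain ⟨G, hG⟩ : ∃ G, G = twistedD4 K q := ⟨_, rfl⟩
  rw [← hG]
  -- the generators
  have gen1 : ∀ t : K, t ^ q = t → ∀ r ∈ [14, 9], xU Δ.hB r t ∈ G := by
    intro t ht r hr
    rw [hG]
    apply Subgroup.subset_closure
    refine ⟨[(r, t)], Or.inl ⟨t, ht, r, hr, rfl⟩, ?_⟩
    simp [ChevalleyDatum.wordMat, xU_val]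
  have gen3 : ∀ t : K, ∀ rs ∈ [(18, 13, 12), (5, 10, 11)],
      xU Δ.hB rs.1 t * xU Δ.hB rs.2.1 (σ t) * xU Δ.hB rs.2.2 ((σ.comp σ) t) ∈ G := by
    intro t rs hrs
    rw [hG]
    apply Subgroup.subset_closure
    refine ⟨[(rs.1, t), (rs.2.1, t ^ q), (rs.2.2, t ^ (q ^ 2))], Or.inr ⟨t, rs, hrs, rfl⟩, ?_⟩
    simp [ChevalleyDatum.wordMat, xU_val, hσ, hσ2, mul_assoc]
  -- the fixed field
  obtain ⟨S, hSdef⟩ : ∃ S : Set K, S = {t | σ t = t} := ⟨_, rfl⟩
  have hS : ∀ (c : ℤ), ∀ t ∈ S, -((c : ℤ) : K) * t ∈ S := by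
    intro c t ht
    rw [hSdef] at ht ⊢
    show σ (-(c : K) * t) = -(c : K) * t
    rw [map_mul, map_neg, map_intCast, ht]
  have hSneg : ∀ t ∈ S, -t ∈ S := by
    intro t ht
    have := hS 1 t ht
    simpa using this
  have h1S : (1 : K) ∈ S := by rw [hSdef]; exact map_one σ
  have genS : ∀ r ∈ [14, 9], ∀ t ∈ S, xU Δ.hB r t ∈ G := by
    intro r hr t ht
    rw [hSdef] at ht
    exact gen1 t (by rw [← hσ]; exact ht) r hr
  have hle := comm_self_le G
  -- the classes over `K`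
  obtain ⟨ψ, hu, hl, hn⟩ := exists_triple_hom Δ tabD4 d4_orth12 d4_orth13 d4_orth23 σ (σ.comp σ)
  rw [d4_negs.1, d4_negs.2.1, d4_negs.2.2] at hl
  have hmu : ∀ t, ψ (upperSL t) ∈ G := fun t => by rw [hu]; exact gen3 t (18, 13, 12) (by simp)
  have hml : ∀ t, ψ (lowerSL t) ∈ G := fun t => by rw [hl]; exact gen3 t (5, 10, 11) (by simp)
  obtain ⟨cu, cl⟩ := mem_commutator_of_hom ψ G hK4 hmu hml
  have hall := mem_of_hom ψ G hmu hml
  -- the element `n = n₁ n₃ n₄`
  obtain ⟨n, hndef⟩ : ∃ n : GL chevD4.Idx K, n = nU Δ.hB 18 (one_ne_zero (α := K)) *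
      nU Δ.hB 13 (one_ne_zero (α := K)) * nU Δ.hB 12 (one_ne_zero (α := K)) := ⟨_, rfl⟩
  have hnG : n ∈ G := by rw [hndef, ← hn]; exact hall _
  have e22 : ∀ t : K, n * xU Δ.hB 14 t * n⁻¹ = xU Δ.hB 22 (-t) := by
    intro t
    have h := conj3 Δ (i := 0) (j := 2) (k := 3) (by decide) (by decide) (by decide) (s := 14)
      (by decide) t
    rw [d4_simple.1, d4_simple.2.1, d4_simple.2.2, d4_c14.1, eta3_cast _ _ _ d4_c14.2] at h
    rw [hndef]
    exact h
  have e1 : ∀ t : K, n * xU Δ.hB 9 t * n⁻¹ = xU Δ.hB 1 (-t) := by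
    intro t
    have h := conj3 Δ (i := 0) (j := 2) (k := 3) (by decide) (by decide) (by decide) (s := 9)
      (by decide) t
    rw [d4_simple.1, d4_simple.2.1, d4_simple.2.2, d4_c9.1, eta3_cast _ _ _ d4_c9.2] at h
    rw [hndef]
    exact h
  have A22 : ∀ t ∈ S, xU Δ.hB 22 t ∈ G := by
    intro t ht
    have h := G.mul_mem (G.mul_mem hnG (genS 14 (by simp) (-t) (hSneg t ht))) (G.inv_mem hnG)
    rw [e22, neg_neg] at h
    exact h
  have A1 : ∀ t ∈ S, xU Δ.hB 1 t ∈ G := by
    intro t ht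
    have h := G.mul_mem (G.mul_mem hnG (genS 9 (by simp) (-t) (hSneg t ht))) (G.inv_mem hnG)
    rw [e1, neg_neg] at h
    exact h
  -- the classes over the fixed field
  have B23 := step_single Δ d4_s1 (hS _) (genS 14 (by simp)) (A22 1 h1S)
  have B14 := step_single Δ d4_s2 (hS _) (fun t ht => hle (B23 t ht)) (A1 1 h1S)
  have B0 := step_single Δ d4_s3 (hS _) (genS 9 (by simp)) (A1 1 h1S)
  have B9 := step_single Δ d4_s4 (hS _) (fun t ht => hle (B0 t ht)) (A22 1 h1S)
  -- assembly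
  have key : {g : GL chevD4.Idx K | ∃ w ∈ d4Words K q,
      (g : Matrix chevD4.Idx chevD4.Idx K) = chevD4.wordMat K w} ⊆
      ((⁅G, G⁆ : Subgroup (GL chevD4.Idx K)) : Set (GL chevD4.Idx K)) := by
    rintro g ⟨w, hw, hgw⟩
    rcases hw with ⟨t, ht, r, hr, rfl⟩ | ⟨t, rs, hrs, rfl⟩
    · have hg : g = xU Δ.hB r t := by
        apply Units.ext
        rw [hgw, xU_val]
        simp [ChevalleyDatum.wordMat]
      rw [hg]
      have htS : t ∈ S := by
        rw [hSdef]
        show σ t = t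
        rw [hσ, ht]
      simp only [List.mem_cons, List.not_mem_nil, or_false] at hr
      rcases hr with rfl | rfl
      · exact B14 t htS
      · exact B9 t htS
    · have hg : g = xU Δ.hB rs.1 t * xU Δ.hB rs.2.1 (σ t) * xU Δ.hB rs.2.2 ((σ.comp σ) t) := by
        apply Units.ext
        rw [hgw]
        simp [ChevalleyDatum.wordMat, xU_val, hσ, hσ2, mul_assoc]
      rw [hg]
      simp only [List.mem_cons, List.not_mem_nil, or_false] at hrs
      rcases hrs with rfl | rfl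
      · have := cu t
        rw [hu] at this
        exact this
      · have := cl t
        rw [hl] at this
        exact this
  calc G = Subgroup.closure {g : GL chevD4.Idx K | ∃ w ∈ d4Words K q,
      (g : Matrix chevD4.Idx chevD4.Idx K) = chevD4.wordMat K w} := hG
    _ ≤ ⁅G, G⁆ := (Subgroup.closure_le _).2 key

end Cfsg.Agent.Helper2.Tw
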