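import Mathlib
import Cfsg.Agent.Helper2.Tw.Core
import Cfsg.Agent.Helper2.Tw.D4Perf

set_option autoImplicit false
set_option linter.unusedSectionVars false
set_option linter.unusedSimpArgs false
set_option linter.unusedVariables false

/-! # The core of `B¹` in `³D₄(q)` is trivial -/

namespace Cfsg.Agent.Helper2.Tw

open Cfsg.Lie Cfsg.Agent.Helper6 Cfsg.Agent.Helper2.St2F Cfsg.Agent.Helper2.ChevSL2

/-- the word of the longest element, in the generators of the twisted Weyl group -/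
def LD4 : List ℕ := [1, 0, 2, 3] ++ ([1, 0, 2, 3] ++ [1, 0, 2, 3])

set_option maxRecDepth 100000 in
theorem d4_w0 : w0Chk chevD4 (chevD4.nroots / 2) LD4 = true := by decide +kernel
set_option maxRecDepth 100000 in
theorem d4_simple' : chevD4.simple 1 = 14 ∧ chevD4.rank = 4 ∧ chevD4.neg 14 = 9 := by
  decide +kernel
set_option maxRecDepth 100000 in
theorem d4_fix : FixOK chevD4 13 (chevD4.neg 18) ∧ FixOK chevD4 12 (chevD4.neg 18) ∧
    FixOK chevD4 18 (chevD4.neg 13) ∧ FixOK chevD4 12 (chevD4.neg 13) ∧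
    FixOK chevD4 18 (chevD4.neg 12) ∧ FixOK chevD4 13 (chevD4.neg 12) := by decide +kernel

variable {K : Type*} [Field K]

theorem d4_gen1 (Δ : BNData chevD4 K) {q : ℕ} {t : K} (ht : t ^ q = t) {r : ℕ}
    (hr : r ∈ [14, 9]) : xU Δ.hB r t ∈ twistedD4 K q := by
  apply Subgroup.subset_closure
  refine ⟨[(r, t)], Or.inl ⟨t, ht, r, hr, rfl⟩, ?_⟩
  simp [ChevalleyDatum.wordMat, xU_val]

theorem d4_gen3 (Δ : BNData chevD4 K) {q : ℕ} (t : K) {rs : ℕ × ℕ × ℕ}
    (hrs : rs ∈ [(18, 13, 12), (5, 10, 11)]) :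
    xU Δ.hB rs.1 t * xU Δ.hB rs.2.1 (t ^ q) * xU Δ.hB rs.2.2 (t ^ (q ^ 2)) ∈ twistedD4 K q := by
  apply Subgroup.subset_closure
  refine ⟨[(rs.1, t), (rs.2.1, t ^ q), (rs.2.2, t ^ (q ^ 2))], Or.inr ⟨t, rs, hrs, rfl⟩, ?_⟩
  simp [ChevalleyDatum.wordMat, xU_val, mul_assoc]

theorem twistedD4_core [Fintype K] {q : ℕ} (hq : IsPrimePow q)
    (hK : Fintype.card K = q ^ 3) :
    ((chevD4.borelSubgroup K ⊓ twistedD4 K q).subgroupOf (twistedD4 K q)).normalCore = ⊥ := by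
  have Δ := bnData_of_tabulated K tabD4
  obtain ⟨σ, hσ⟩ := exists_frob K hq hK three_ne_zero
  have hσ2 : ∀ t, (σ.comp σ) t = t ^ (q ^ 2) := by
    intro t
    rw [RingHom.comp_apply, hσ, hσ, ← pow_mul, sq]
  have hneg1 : (-1 : K) ^ q = -1 := by rw [← hσ, map_neg, map_one]
  obtain ⟨G, hG⟩ : ∃ G, G = twistedD4 K q := ⟨_, rfl⟩
  rw [← hG]
  -- the elements `n` of the classes
  have hn14 : nU Δ.hB 14 (one_ne_zero (α := K)) ∈ G := by
    rw [nU_eq_word, d4_simple'.2.2, hG]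
    exact Subgroup.mul_mem _ (Subgroup.mul_mem _ (d4_gen1 Δ (one_pow q) (by simp))
      (d4_gen1 Δ hneg1 (by simp))) (d4_gen1 Δ (one_pow q) (by simp))
  obtain ⟨ψ, hu, hl, hn⟩ := exists_triple_hom Δ tabD4 d4_orth12 d4_orth13 d4_orth23 σ (σ.comp σ)
  rw [d4_negs.1, d4_negs.2.1, d4_negs.2.2] at hl
  have hall' := mem_of_hom ψ G
    (fun t => by rw [hu, hσ, hσ2, hG]; exact d4_gen3 Δ t (rs := (18, 13, 12)) (by simp))
    (fun t => by rw [hl, hσ, hσ2, hG]; exact d4_gen3 Δ t (rs := (5, 10, 11)) (by simp))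
  have hn134 : nU Δ.hB 18 (one_ne_zero (α := K)) * nU Δ.hB 13 (one_ne_zero (α := K)) *
      nU Δ.hB 12 (one_ne_zero (α := K)) ∈ G := by
    rw [← hn]; exact hall' _
  -- the longest element
  have hL4 : nW Δ.hB K [1, 0, 2, 3] ∈ G := by
    have e : nW Δ.hB K [1, 0, 2, 3] =
        nU Δ.hB 14 (one_ne_zero (α := K)) * (nU Δ.hB 18 (one_ne_zero (α := K)) *
          nU Δ.hB 13 (one_ne_zero (α := K)) * nU Δ.hB 12 (one_ne_zero (α := K))) := by
      unfold nW
      simp only [List.map_cons, List.map_nil, List.prod_cons, List.prod_nil, mul_one,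
        d4_simple.1, d4_simple.2.1, d4_simple.2.2, d4_simple'.1, mul_assoc]
    rw [e]
    exact G.mul_mem hn14 hn134
  have hnG : nW Δ.hB K LD4 ∈ G := by
    unfold LD4
    simp only [nW_append]
    exact G.mul_mem hL4 (G.mul_mem hL4 hL4)
  obtain ⟨hnN, hnU⟩ := map_conj_nW Δ d4_w0
  apply core_eq_bot Δ G hnG hnN hnU
  intro k c hc hkv hall i hi
  have h14 := char_single Δ hc hkv (r := 14) (by decide)
    (hall _ (by rw [hG]; exact d4_gen1 Δ (one_pow q) (by simp)))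
  have h134 := char_triple Δ hc hkv (r := 18) (r' := 13) (r'' := 12) (by decide) (by decide)
    (by decide)
    (fun t u => commute_of_commNil Δ d4_orth12.1 t u)
    (fun t u => commute_of_commNil Δ d4_orth13.1 t u)
    (fun t u => commute_of_commNil Δ d4_orth23.1 t u)
    d4_fix.1 d4_fix.2.1 d4_fix.2.2.1 d4_fix.2.2.2.1 d4_fix.2.2.2.2.1 d4_fix.2.2.2.2.2
    (hall _ (by
      have := d4_gen3 Δ (q := q) (1 : K) (rs := (18, 13, 12)) (by simp)
      rw [one_pow, one_pow] at this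
      rw [hG]; exact this))
  rw [d4_simple'.2.1] at hi
  interval_cases i
  · rw [d4_simple.1]; exact h134.1
  · rw [d4_simple'.1]; exact h14
  · rw [d4_simple.2.1]; exact h134.2.1
  · rw [d4_simple.2.2]; exact h134.2.2

end Cfsg.Agent.Helper2.Tw
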