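import Mathlib
import Cfsg.Agent.Helper2.Tw.Core
import Cfsg.Agent.Helper2.Tw.E6Perf

set_option autoImplicit false
set_option linter.unusedSectionVars false
set_option linter.unusedSimpArgs false
set_option linter.unusedVariables false

/-! # The core of `B¹` in `²E₆(q)` is trivial -/

namespace Cfsg.Agent.Helper2.Tw

open Cfsg.Lie Cfsg.Agent.Helper6 Cfsg.Agent.Helper2.St2F Cfsg.Agent.Helper2.ChevSL2

/-- the word of the longest element, in the generators of the twisted Weyl group -/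
def LE6 : List ℕ :=
  [1, 3, 2, 4, 0, 5] ++ ([1, 3, 2, 4, 0, 5] ++ ([1, 3, 2, 4, 0, 5] ++ ([1, 3, 2, 4, 0, 5] ++
    ([1, 3, 2, 4, 0, 5] ++ [1, 3, 2, 4, 0, 5]))))

set_option maxRecDepth 100000 in
theorem e6_w0 : w0Chk chevE6 (chevE6.nroots / 2) LE6 = true := by decide +kernel
set_option maxRecDepth 100000 in
theorem e6_simple : chevE6.simple 0 = 56 ∧ chevE6.simple 1 = 46 ∧ chevE6.simple 2 = 42 ∧
    chevE6.simple 3 = 39 ∧ chevE6.simple 4 = 37 ∧ chevE6.simple 5 = 36 ∧ chevE6.rank = 6 := by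
  decide +kernel
set_option maxRecDepth 100000 in
theorem e6_negs2 : chevE6.neg 46 = 25 ∧ chevE6.neg 39 = 32 := by decide +kernel
set_option maxRecDepth 100000 in
theorem e6_fix : FixOK chevE6 36 (chevE6.neg 56) ∧ FixOK chevE6 56 (chevE6.neg 36) ∧
    FixOK chevE6 37 (chevE6.neg 42) ∧ FixOK chevE6 42 (chevE6.neg 37) := by decide +kernel

variable {K : Type*} [Field K]

theorem e6_gen1 (Δ : BNData chevE6 K) {q : ℕ} {t : K} (ht : t ^ q = t) {r : ℕ}
    (hr : r ∈ [46, 25, 39, 32]) : xU Δ.hB r t ∈ twistedE6 K q := by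
  apply Subgroup.subset_closure
  refine ⟨[(r, t)], Or.inl ⟨t, ht, r, hr, rfl⟩, ?_⟩
  simp [ChevalleyDatum.wordMat, xU_val]

theorem e6_gen2 (Δ : BNData chevE6 K) {q : ℕ} (t : K) {rs : ℕ × ℕ}
    (hrs : rs ∈ [(56, 36), (15, 35), (42, 37), (29, 34)]) :
    xU Δ.hB rs.1 t * xU Δ.hB rs.2 (t ^ q) ∈ twistedE6 K q := by
  apply Subgroup.subset_closure
  refine ⟨[(rs.1, t), (rs.2, t ^ q)], Or.inr ⟨t, rs, hrs, rfl⟩, ?_⟩
  simp [ChevalleyDatum.wordMat, xU_val]

theorem twistedE6_core [Fintype K] {q : ℕ} (hq : IsPrimePow q)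
    (hK : Fintype.card K = q ^ 2) :
    ((chevE6.borelSubgroup K ⊓ twistedE6 K q).subgroupOf (twistedE6 K q)).normalCore = ⊥ := by
  have Δ := bnData_of_tabulated K tabE6
  obtain ⟨σ, hσ⟩ := exists_frob K hq hK two_ne_zero
  have hneg1 : (-1 : K) ^ q = -1 := by rw [← hσ, map_neg, map_one]
  obtain ⟨G, hG⟩ : ∃ G, G = twistedE6 K q := ⟨_, rfl⟩
  rw [← hG]
  -- the elements `n` of the classes
  have hn46 : nU Δ.hB 46 (one_ne_zero (α := K)) ∈ G := by
    rw [nU_eq_word, e6_negs2.1, hG]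
    exact Subgroup.mul_mem _ (Subgroup.mul_mem _ (e6_gen1 Δ (one_pow q) (by simp))
      (e6_gen1 Δ hneg1 (by simp))) (e6_gen1 Δ (one_pow q) (by simp))
  have hn39 : nU Δ.hB 39 (one_ne_zero (α := K)) ∈ G := by
    rw [nU_eq_word, e6_negs2.2, hG]
    exact Subgroup.mul_mem _ (Subgroup.mul_mem _ (e6_gen1 Δ (one_pow q) (by simp))
      (e6_gen1 Δ hneg1 (by simp))) (e6_gen1 Δ (one_pow q) (by simp))
  obtain ⟨ψ₁, hu1, hl1, hn1⟩ := exists_pair_hom Δ tabE6 e6_orth1 σ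
  rw [e6_negs.1, e6_negs.2.1] at hl1
  have hall1 := mem_of_hom ψ₁ G
    (fun t => by rw [hu1, hσ, hG]; exact e6_gen2 Δ t (rs := (56, 36)) (by simp))
    (fun t => by rw [hl1, hσ, hG]; exact e6_gen2 Δ t (rs := (15, 35)) (by simp))
  obtain ⟨ψ₃, hu3, hl3, hn3⟩ := exists_pair_hom Δ tabE6 e6_orth3 σ
  rw [e6_negs.2.2.1, e6_negs.2.2.2] at hl3
  have hall3 := mem_of_hom ψ₃ G
    (fun t => by rw [hu3, hσ, hG]; exact e6_gen2 Δ t (rs := (42, 37)) (by simp))
    (fun t => by rw [hl3, hσ, hG]; exact e6_gen2 Δ t (rs := (29, 34)) (by simp))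
  have hn16 : nU Δ.hB 56 (one_ne_zero (α := K)) * nU Δ.hB 36 (one_ne_zero (α := K)) ∈ G := by
    rw [← hn1]; exact hall1 _
  have hn35 : nU Δ.hB 42 (one_ne_zero (α := K)) * nU Δ.hB 37 (one_ne_zero (α := K)) ∈ G := by
    rw [← hn3]; exact hall3 _
  -- the longest element
  have hL6 : nW Δ.hB K [1, 3, 2, 4, 0, 5] ∈ G := by
    have e : nW Δ.hB K [1, 3, 2, 4, 0, 5] =
        nU Δ.hB 46 (one_ne_zero (α := K)) * (nU Δ.hB 39 (one_ne_zero (α := K)) *
          ((nU Δ.hB 42 (one_ne_zero (α := K)) * nU Δ.hB 37 (one_ne_zero (α := K))) *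
            (nU Δ.hB 56 (one_ne_zero (α := K)) * nU Δ.hB 36 (one_ne_zero (α := K))))) := by
      unfold nW
      simp only [List.map_cons, List.map_nil, List.prod_cons, List.prod_nil, mul_one,
        e6_simple.1, e6_simple.2.1, e6_simple.2.2.1, e6_simple.2.2.2.1, e6_simple.2.2.2.2.1,
        e6_simple.2.2.2.2.2.1, mul_assoc]
    rw [e]
    exact G.mul_mem hn46 (G.mul_mem hn39 (G.mul_mem hn35 hn16))
  have hnG : nW Δ.hB K LE6 ∈ G := by
    unfold LE6
    simp only [nW_append]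
    exact G.mul_mem hL6 (G.mul_mem hL6 (G.mul_mem hL6 (G.mul_mem hL6 (G.mul_mem hL6 hL6))))
  obtain ⟨hnN, hnU⟩ := map_conj_nW Δ e6_w0
  apply core_eq_bot Δ G hnG hnN hnU
  intro k c hc hkv hall i hi
  have h46 := char_single Δ hc hkv (r := 46) (by decide)
    (hall _ (by rw [hG]; exact e6_gen1 Δ (one_pow q) (by simp)))
  have h39 := char_single Δ hc hkv (r := 39) (by decide)
    (hall _ (by rw [hG]; exact e6_gen1 Δ (one_pow q) (by simp)))
  have h16 := char_pair Δ hc hkv (r := 56) (r' := 36) (by decide) (by decide)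
    (fun t u => commute_of_commNil Δ e6_orth1.1 t u) e6_fix.1 e6_fix.2.1
    (hall _ (by
      have := e6_gen2 Δ (q := q) (1 : K) (rs := (56, 36)) (by simp)
      rw [one_pow] at this
      rw [hG]; exact this))
  have h35 := char_pair Δ hc hkv (r := 42) (r' := 37) (by decide) (by decide)
    (fun t u => commute_of_commNil Δ e6_orth3.1 t u) e6_fix.2.2.1 e6_fix.2.2.2
    (hall _ (by
      have := e6_gen2 Δ (q := q) (1 : K) (rs := (42, 37)) (by simp)
      rw [one_pow] at this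
      rw [hG]; exact this))
  rw [e6_simple.2.2.2.2.2.2] at hi
  interval_cases i
  · rw [e6_simple.1]; exact h16.1
  · rw [e6_simple.2.1]; exact h46
  · rw [e6_simple.2.2.1]; exact h35.1
  · rw [e6_simple.2.2.2.1]; exact h39
  · rw [e6_simple.2.2.2.2.1]; exact h35.2
  · rw [e6_simple.2.2.2.2.2.1]; exact h16.2

end Cfsg.Agent.Helper2.Tw
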